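import Cfsg.Agent.Lib.Small.Char2Invol.Step
import Cfsg.Agent.Lib.Small.Char2Invol.Data.TabE6
import Cfsg.Agent.Lib.Small.TwoGen.TwistedE6
import Cfsg.Agent.Lib.Lie.TwistE6W
import Cfsg.Agent.Lib.Lie.TwistE6S
import Cfsg.Agent.Lib.Lie.TwistSimple

/-!
Orbit elements of ²E₆(q), q even: membership, the symmetry of coefficients of fixed elements,
conjugation into U.
-/

set_option autoImplicit false
set_option maxRecDepth 4000
set_option linter.unusedSectionVars false

namespace Cfsg.Agent.Small.C2Inv.TwE6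

open Cfsg.Lie Cfsg.Agent.Lie Cfsg.Agent.Small.C2Inv.Cert
open Cfsg.Agent.Lie.E6 (Setup)
open Cfsg.Agent.Small.TwoGen (commutes)
open scoped MatrixGroups

/-- The image of a root under the graph symmetry, by table. -/
def sgList : List ℕ := (List.range 72).map graphE6.img

theorem img_facts : ((List.range 72).all fun r => decide (graphE6.img r < 72) &&
    (graphE6.img (graphE6.img r) == r) && ((36 ≤ r : Bool) == (36 ≤ graphE6.img r : Bool)) &&
    (graphE6.expo r == 1) && (graphE6.sign r == 1 || graphE6.sign r == -1)) = true := by decide +kernel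

theorem img_spec {r : ℕ} (hr : r < 72) : graphE6.img r < 72 ∧ graphE6.img (graphE6.img r) = r ∧
    (36 ≤ r ↔ 36 ≤ graphE6.img r) ∧ graphE6.expo r = 1 ∧ (graphE6.sign r = 1 ∨ graphE6.sign r = -1) := by
  have h := List.all_eq_true.1 img_facts r (List.mem_range.2 hr)
  simp only [Bool.and_eq_true, decide_eq_true_eq, beq_iff_eq, Bool.or_eq_true, decide_eq_decide] at h
  exact ⟨h.1.1.1.1, h.1.1.1.2, h.1.1.2, h.1.2, h.2⟩

variable {K : Type*} [Field K] [Fintype K] [CharP K 2] {q : ℕ} (S : Setup K q)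

theorem sign_one {r : ℕ} (hr : r < 72) : (graphE6.sign r : K) = 1 := by
  rcases (img_spec hr).2.2.2.2 with h | h <;> simp [h, CharTwo.neg_eq]

include S

theorem sig_xg {r : ℕ} (hr : r < 72) (t : K) :
    S.T.sig (factsE6.xg r t) = factsE6.xg (graphE6.img r) (t ^ q) := by
  rw [Cfsg.Agent.Small.TwoGen.E6.sig_xg S hr, sign_one hr, one_mul]

theorem sig_prod : ∀ (W : List (ℕ × K)), (∀ p ∈ W, p.1 < 72) →
    S.T.sig (W.map fun p => factsE6.xg p.1 p.2).prod =
      ((W.map fun p => (graphE6.img p.1, p.2 ^ q)).map fun p => factsE6.xg p.1 p.2).prod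
  | [], _ => by simpa using S.T.sig_one
  | p :: W, h => by
    rw [List.map_cons, List.prod_cons, S.T.sig_mul _ (factsE6.xg_mem_group _ _) _
      (Subgroup.list_prod_mem _ fun g hg => by
        obtain ⟨x, -, rfl⟩ := List.mem_map.1 hg
        exact factsE6.xg_mem_group _ _),
      sig_xg S (h p (List.mem_cons_self ..)), sig_prod W fun x hx => h x (List.mem_cons_of_mem _ hx),
      List.map_cons, List.map_cons, List.prod_cons]

/-- The coefficient at the image of an indecomposable root of a fixed element. -/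
theorem coef_sym {L s : ℕ} (hL : Closed chevE6 L)
    (hsym : ∀ r, has L r = true → has L (graphE6.img r) = true) (hs : has L s = true)
    (hi : Indec chevE6 L (graphE6.img s)) {c : ℕ → K} (hc : Supp chevE6 L c)
    (hfix : el factsE6 c ∈ S.T.fix) : c (graphE6.img s) = c s ^ q := by
  classical
  have hp : ∀ r ∈ Facts.posL chevE6, r < 72 ∧ 36 ≤ r := fun r hr =>
    ⟨(Facts.mem_posL.1 hr).2, (Facts.mem_posL.1 hr).1⟩
  set W := (Facts.posL chevE6).map fun r => (r, c r) with hW
  have he : el factsE6 c = (W.map fun p => factsE6.xg p.1 p.2).prod := by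
    rw [hW, List.map_map]; rfl
  have h1 := sig_prod S W fun p hp' => by
    obtain ⟨r, hr, rfl⟩ := List.mem_map.1 hp'
    exact (hp r hr).1
  rw [← he, hfix.2] at h1
  have hq0 : q ≠ 0 := by have := S.hq; omega
  have hmem : ∀ p ∈ W.map (fun p => (graphE6.img p.1, p.2 ^ q)), has L p.1 = true ∨ p.2 = 0 := by
    intro p hp'
    rw [hW, List.map_map] at hp'
    obtain ⟨r, hr, rfl⟩ := List.mem_map.1 hp'
    cases h : has L r
    · right
      show c r ^ q = 0
      rw [hc r (hp r hr).2 (hp r hr).1 h, zero_pow hq0]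
    · exact Or.inl (hsym r h)
  rw [coef_word factsE6 hL (hsym s hs) hi hmem hc h1.symm]
  have hs' := hL.pos s hs
  refine coef_of_nodup (p := (graphE6.img s, c s ^ q)) ?_ ?_
  · rw [hW, List.map_map, List.map_map]
    refine List.Nodup.map_on (fun a ha b hb hab => ?_) factsE6.closedList_posL.sorted.nodup
    simp only [Function.comp_apply] at hab
    rw [← (img_spec (hp a ha).1).2.1, hab, (img_spec (hp b hb).1).2.1]
  · rw [hW, List.map_map]
    exact List.mem_map.2 ⟨s, Facts.mem_posL.2 hs', rfl⟩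

theorem orb_fix {p : ℕ} (hp : p < 72) (hne : graphE6.img p ≠ p) (t : K) :
    factsE6.xg p t * factsE6.xg (graphE6.img p) (t ^ q) ∈ S.T.fix := by
  refine ⟨mul_mem (factsE6.xg_mem_group _ _) (factsE6.xg_mem_group _ _), ?_⟩
  rw [S.T.sig_mul _ (factsE6.xg_mem_group _ _) _ (factsE6.xg_mem_group _ _), sig_xg S hp,
    sig_xg S (img_spec hp).1, S.pow_sq, (img_spec hp).2.1]
  refine (Cfsg.Agent.Small.TwoGen.E6.commutes_rev ?_ _ _).symm.eq
  rcases Cfsg.Agent.Small.TwoGen.E6.orth_img hp with h | h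
  exacts [absurd h.symm hne, h]

/-- A root element of a fixed root with parameter in the subfield. -/
theorem fixRoot_mem {p : ℕ} (hp : p < 72) (he : graphE6.img p = p) {t : K} (ht : t ^ q = t) :
    factsE6.xg p t ∈ twistedE6 K q := by
  have hf : factsE6.xg p t ∈ S.T.fix :=
    ⟨factsE6.xg_mem_group _ _, by rw [sig_xg S hp, he, ht]⟩
  by_cases h : 36 ≤ p
  · refine S.data.U_fix_le ⟨?_, hf⟩
    exact CommSys.x_mem_US _ (Facts.mem_posL.2 ⟨h, hp⟩) t
  · exact S.data.neg_fix_le (L := [p]) (fun s hs => by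
      obtain rfl := List.mem_singleton.1 hs
      exact not_le.1 h) (CommSys.x_mem_US _ (List.mem_singleton_self _) t) hf

/-- The element of a pair of roots. -/
theorem pairRoot_mem {p : ℕ} (hp : p < 72) (hne : graphE6.img p ≠ p) (t : K) :
    factsE6.xg p t * factsE6.xg (graphE6.img p) (t ^ q) ∈ twistedE6 K q := by
  have hf := orb_fix S hp hne t
  obtain ⟨hp', -, hiff, -⟩ := img_spec hp
  by_cases h : 36 ≤ p
  · refine S.data.U_fix_le ⟨?_, hf⟩
    exact mul_mem (CommSys.x_mem_US _ (Facts.mem_posL.2 ⟨h, hp⟩) _)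
      (CommSys.x_mem_US _ (Facts.mem_posL.2 ⟨hiff.1 h, hp'⟩) _)
  · exact S.data.neg_fix_le (L := [p, graphE6.img p]) (fun s hs => by
      simp only [List.mem_cons, List.not_mem_nil, or_false] at hs
      rcases hs with rfl | rfl
      · exact not_le.1 h
      · exact not_le.1 fun h' => h (hiff.2 h'))
      (mul_mem (CommSys.x_mem_US _ (by simp) _) (CommSys.x_mem_US _ (by simp) _)) hf

theorem qadd (x y : K) : (x + y) ^ q = x ^ q + y ^ q := by
  rw [← S.hfr, ← S.hfr, ← S.hfr, map_add]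

theorem qzero : (0 : K) ^ q = 0 := zero_pow (by have := S.hq; omega)

theorem qsqrt {a : K} (ha : a ^ q = a) : ∃ z : K, z ^ q = z ∧ z ^ 2 = a := by
  obtain ⟨z, hz⟩ := FiniteField.isSquare_of_char_two (ringChar.eq K 2) a
  have hz2 : z ^ 2 = a := by rw [pow_two]; exact hz.symm
  refine ⟨z, CharTwo.sq_injective ?_, hz2⟩
  show (z ^ q) ^ 2 = z ^ 2
  rw [← pow_mul, mul_comm, pow_mul, hz2, ha]

/-- The representative of the reflection of an orbit of simple roots. -/
theorem ng_mem {i : ℕ} (hi : i < 6) (he : graphE6.img (chevE6.simple i) = chevE6.simple i) :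
    factsE6.ng (chevE6.simple i) (1 : K) ∈ twistedE6 K q := by
  have hp := factsE6.simple_lt i hi
  have hn : chevE6.neg (chevE6.simple i) < 72 := factsE6.neg_lt hp
  have he' : graphE6.img (chevE6.neg (chevE6.simple i)) = chevE6.neg (chevE6.simple i) := by
    revert he; revert i; decide +kernel
  rw [factsE6.ng_eq, inv_one]
  exact mul_mem (mul_mem (fixRoot_mem S hp he (one_pow q))
    (fixRoot_mem S hn he' (by rw [CharTwo.neg_eq, one_pow]))) (fixRoot_mem S hp he (one_pow q))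

theorem ng_pair_mem {i j : ℕ} (h : (i, j) ∈ [(0, 5), (2, 4)]) :
    factsE6.ng (chevE6.simple i) (1 : K) * factsE6.ng (chevE6.simple j) (1 : K) ∈ twistedE6 K q := by
  obtain ⟨hi, hj, hij, hne, hn1, hn2, hne', c1, c2, c3⟩ : chevE6.simple i < 72 ∧ chevE6.simple j < 72 ∧
      graphE6.img (chevE6.simple i) = chevE6.simple j ∧ chevE6.simple j ≠ chevE6.simple i ∧
      chevE6.neg (chevE6.simple i) < 72 ∧
      graphE6.img (chevE6.neg (chevE6.simple i)) = chevE6.neg (chevE6.simple j) ∧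
      chevE6.neg (chevE6.simple j) ≠ chevE6.neg (chevE6.simple i) ∧
      commutes chevE6 0 (chevE6.simple i) (chevE6.simple j) = true ∧
      commutes chevE6 0 (chevE6.simple i) (chevE6.neg (chevE6.simple j)) = true ∧
      commutes chevE6 0 (chevE6.neg (chevE6.simple i)) (chevE6.simple j) = true := by
    simp only [List.mem_cons, List.not_mem_nil, or_false, Prod.mk.injEq] at h
    rcases h with ⟨rfl, rfl⟩ | ⟨rfl, rfl⟩ <;> decide +kernel
  have m1 := pairRoot_mem S hi (hij.symm ▸ hne) (1 : K)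
  have m2 := pairRoot_mem S hn1 (hn2.symm ▸ hne') (1 : K)
  rw [hij, one_pow] at m1
  rw [hn2, one_pow] at m2
  have := mul_mem (mul_mem m1 m2) m1
  rw [factsE6.ng_eq, factsE6.ng_eq, inv_one, CharTwo.neg_eq]
  convert this using 1
  have d1 := Cfsg.Agent.Small.TwoGen.E6.commutes_rev (F := K) c1 1 1
  have d2 := Cfsg.Agent.Small.TwoGen.E6.commutes_rev (F := K) c2 1 1
  have d3 := Cfsg.Agent.Small.TwoGen.E6.commutes_rev (F := K) c3 1 1
  generalize factsE6.xg (chevE6.simple i) (1 : K) = x, factsE6.xg (chevE6.simple j) (1 : K) = y,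
    factsE6.xg (chevE6.neg (chevE6.simple i)) (1 : K) = u,
    factsE6.xg (chevE6.neg (chevE6.simple j)) (1 : K) = v at d1 d2 d3 ⊢
  calc x * u * x * (y * v * y) = x * u * (x * y) * v * y := by group
    _ = x * (u * y) * (x * v) * y := by rw [d1.eq]; group
    _ = x * y * u * (v * x) * y := by rw [d3.eq, d2.eq]; group
    _ = _ := by group

/-- Conjugate inside ²E₆(q). -/
def CT (q : ℕ) (a b : GL chevE6.Idx K) : Prop := ∃ g ∈ twistedE6 K q, g * a * g⁻¹ = b

theorem ct_trans {a b c : GL chevE6.Idx K} (h : CT q a b) (h' : CT q b c) : CT q a c := by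
  obtain ⟨g, hg, rfl⟩ := h
  obtain ⟨g', hg', rfl⟩ := h'
  exact ⟨g' * g, mul_mem hg' hg, by group⟩

/-- The fixed part of U is a Sylow 2-subgroup. -/
theorem exists_ct_U {g : GL chevE6.Idx K} (hg : g ∈ twistedE6 K q) (hg2 : g * g = 1) :
    ∃ u ∈ (factsE6.tsys K).U, u ∈ twistedE6 K q ∧ CT q g u := by
  classical
  haveI : Fact (Nat.Prime 2) := ⟨Nat.prime_two⟩
  obtain ⟨n, -, hn⟩ := FiniteField.card K 2
  obtain ⟨m, -, hm⟩ := (Nat.dvd_prime_pow Nat.prime_two).1
    (show q ∣ 2 ^ (n : ℕ) by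
      rw [← hn, ← Nat.card_eq_fintype_card, S.hK]; exact dvd_pow_self _ (by norm_num))
  have hq2 : 2 ∣ q := by
    rw [hm]; refine dvd_pow_self 2 ?_
    rintro rfl
    have := S.hq
    simp [hm] at this
  set U1 := chevE6.posUnipotent K ⊓ twistedE6 K q with hU1
  set U0 := U1.subgroupOf (twistedE6 K q) with hU0
  have hle : U1 ≤ twistedE6 K q := inf_le_right
  have hcard : Nat.card ↥U0 = q ^ 36 := by
    rw [hU0, Nat.card_congr (Subgroup.subgroupOfEquivOfLe hle).toEquiv]
    have hu := S.data.card_U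
    change Nat.card ↥(chevE6.posUnipotent K ⊓ twistedE6 K q) ^ 1 = q ^ (chevE6.nroots / 2) at hu
    rwa [pow_one] at hu
  have hp : IsPGroup 2 ↥U0 := IsPGroup.of_card (n := m * 36) (by rw [hcard, hm, ← pow_mul])
  have hodd : ¬ 2 ∣ U0.index := by
    intro h2
    have h := U0.index_mul_card
    rw [hcard] at h
    have h' := S.card_group
    rw [← h] at h'
    have hi : Nat.gcd 3 (q + 1) * U0.index =
        (q ^ 2 - 1) * (q ^ 5 + 1) * (q ^ 6 - 1) * (q ^ 8 - 1) * (q ^ 9 + 1) * (q ^ 12 - 1) := by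
      refine Nat.eq_of_mul_eq_mul_left (pow_pos (by have := S.hq; omega : 0 < q) 36) ?_
      simp only [mul_assoc] at h' ⊢
      rw [← h']
      ring
    have hk : ∀ k, 1 ≤ k → ¬ 2 ∣ q ^ k - 1 ∧ ¬ 2 ∣ q ^ k + 1 := fun k hk => by
      have h4 : 2 ∣ q ^ k := hq2.trans (dvd_pow_self q (by omega))
      have h5 : 1 ≤ q ^ k := Nat.one_le_pow _ _ (by have := S.hq; omega)
      omega
    have h6 := dvd_mul_of_dvd_right h2 (Nat.gcd 3 (q + 1))
    rw [hi] at h6
    simp only [Nat.prime_two.dvd_mul] at h6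
    rcases h6 with ((((h6 | h6) | h6) | h6) | h6) | h6
    exacts [(hk 2 (by norm_num)).1 h6, (hk 5 (by norm_num)).2 h6, (hk 6 (by norm_num)).1 h6,
      (hk 8 (by norm_num)).1 h6, (hk 9 (by norm_num)).2 h6, (hk 12 (by norm_num)).1 h6]
  set x : ↥(twistedE6 K q) := ⟨g, hg⟩
  have hx : IsPGroup 2 ↥(Subgroup.zpowers x) := by
    intro y
    refine ⟨1, ?_⟩
    obtain ⟨k, hk⟩ := Subgroup.mem_zpowers_iff.1 y.2
    refine Subtype.ext ?_
    show (y : ↥(twistedE6 K q)) ^ 2 ^ 1 = 1
    rw [pow_one, ← hk, ← zpow_natCast, ← _root_.zpow_mul, mul_comm, _root_.zpow_mul]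
    have : x ^ ((2 : ℕ) : ℤ) = 1 := by
      rw [zpow_natCast, pow_two]
      exact Subtype.ext hg2
    rw [this, _root_.one_zpow]
  obtain ⟨P, hP⟩ := hx.exists_le_sylow
  obtain ⟨a, ha⟩ := MulAction.exists_smul_eq ↥(twistedE6 K q) P (hp.toSylow hodd)
  have h2 := congrArg Sylow.toSubgroup ha
  rw [Sylow.coe_subgroup_smul] at h2
  have h3 : a * x * a⁻¹ ∈ (hp.toSylow hodd).toSubgroup := h2 ▸ Subgroup.mem_map.2 ⟨x, hP (Subgroup.mem_zpowers x), rfl⟩
  change a * x * a⁻¹ ∈ U0 at h3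
  rw [hU0, Subgroup.mem_subgroupOf] at h3
  refine ⟨(a : GL chevE6.Idx K) * g * (a : GL chevE6.Idx K)⁻¹, ?_, h3.2, ⟨a, a.2, rfl⟩⟩
  rw [factsE6.tsys_U]
  exact h3.1

end Cfsg.Agent.Small.C2Inv.TwE6
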