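import Cfsg.Agent.Lib.Small.Char2Invol.TwE6.Check

/-!
The certificate for the involutions of ²E₆(q), q even.
-/

set_option autoImplicit false

namespace Cfsg.Agent.Small.C2Inv.TwE6

open Cfsg.Lie Cfsg.Agent.Small.C2Inv.Cert

def nodes0 : Tr TNode :=
  (.node (.node (.node (.node (.node (.leaf ⟨(nat_lit 4722366482800925736960), [], .br 36 7 1⟩) (.leaf ⟨(nat_lit 4714350075532925730816), [], .br 60 269 257⟩)) (.leaf ⟨(nat_lit 1000749376797625286656), [(nat_lit 52), (nat_lit 53), (nat_lit 62)], .w1 3 215⟩)) (.node (.leaf ⟨(nat_lit 4722294199051089870848), [(nat_lit 38), (nat_lit 57)], .sq 38 50 52 1 65⟩) (.leaf ⟨(nat_lit 4721283930109216030720), [], .br 49 206 193⟩))) (.node (.node (.node (.leaf ⟨(nat_lit 2731272469930445897728), [(nat_lit 39), (nat_lit 44)], .br 48 41 33⟩) (.leaf ⟨(nat_lit 4685509023519245074432), [(nat_lit 65)], .killB 37 66 [] [] 289⟩)) (.leaf ⟨(nat_lit 4721861833420775096320), [], .br 48 177 161⟩)) (.node (.leaf ⟨(nat_lit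 4072449911780506861568), [(nat_lit 47)], .killA 69 71 [] 97⟩) (.leaf ⟨(nat_lit 4174742278980275011584), [(nat_lit 52), (nat_lit 62)], .killC 45 69 [] [] 225⟩)))) (.node (.node (.node (.node (.leaf ⟨(nat_lit 4722150305139729104896), [(nat_lit 39)], .sq 39 46 47 1 17⟩) (.leaf ⟨(nat_lit 4196652291167432474624), [(nat_lit 54), (nat_lit 64)], .killC 36 65 [] [] 273⟩)) (.leaf ⟨(nat_lit 4562134336694499934208), [(nat_lit 44)], .sq 44 65 70 1 145⟩)) (.node (.leaf ⟨(nat_lit 2989527863878460899328), [(nat_lit 40), (nat_lit 43)], .br 47 84 81⟩) (.leaf ⟨(nat_lit 4717824602645442068480), [(nat_lit 51)], .killB 36 52 [] [] 209⟩))) (.node (.node (.node (.leaf ⟨(nat_lit 2879457522286747189248), [(nat_lit 39), (nat_lit 45), (nat_lit 59)], .w1 1 124⟩) (.leaf ⟨(nat_lit 3910709743626424942592), [(nat_lit 66), (nat_lit 68)], .killC 40 70 [] [] 305⟩)) (.leaf ⟨(nat_lit 1773193837035284070400), [(nat_lit 49), (nat_lit 61)], .w2 2 4 (nat_lit 1256688943621090574336)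 240⟩)) (.node (.leaf ⟨(nat_lit 590304887926704570368), [(nat_lit 46), (nat_lit 53), (nat_lit 69)], .w2 0 5 (nat_lit 608742624801159380992) 113⟩) (.leaf ⟨(nat_lit 1222101298482885165056), [(nat_lit 52), (nat_lit 62)], .w1 3 275⟩)))))

def nodes1 : Tr TNode :=
  (.node (.node (.node (.node (.node (.leaf ⟨(nat_lit 4722366482800925736960), [(nat_lit 36), (nat_lit 56)], .sq 36 37 38 1 2⟩) (.leaf ⟨(nat_lit 4714350075532925730816), [(nat_lit 60)], .killB 48 66 [] [] 258⟩)) (.leaf ⟨(nat_lit 1706359996352640843776), [(nat_lit 47)], .w2 2 4 (nat_lit 1835488190031026192384) 214⟩)) (.node (.leaf ⟨(nat_lit 4722292791676206317568), [(nat_lit 38), (nat_lit 57)], .killE 39 41 60 [] 66⟩) (.leaf ⟨(nat_lit 4721283930109216030720), [(nat_lit 49), (nat_lit 61)], .killB 37 62 [] [] 194⟩))) (.node (.node (.node (.leaf ⟨(nat_lit 2731272469930445897728), [(nat_lit 39), (nat_lit 44), (nat_lit 48), (nat_lit 50)], .sq 48 60 66 1 34⟩) (.leaf ⟨(nat_lit 4316574142045054042112),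 [(nat_lit 65)], .killA 44 70 [] 290⟩)) (.leaf ⟨(nat_lit 4721861833420775096320), [(nat_lit 48), (nat_lit 50)], .sq 45 48 55 2 162⟩)) (.node (.leaf ⟨(nat_lit 1711266670345684254720), [(nat_lit 47)], .br 41 102 98⟩) (.leaf ⟨(nat_lit 3584446468621569359872), [(nat_lit 52), (nat_lit 62)], .killC 54 71 [] [] 226⟩)))) (.node (.node (.node (.node (.leaf ⟨(nat_lit 4722150234770984927232), [(nat_lit 39)], .killB 37 40 [] [] 18⟩) (.leaf ⟨(nat_lit 4159758803020013371392), [(nat_lit 54), (nat_lit 64)], .killC 45 70 [] [] 274⟩)) (.leaf ⟨(nat_lit 4525240848547080830976), [(nat_lit 44)], .killA 63 69 [] 146⟩)) (.node (.leaf ⟨(nat_lit 2989527863878460899328), [(nat_lit 40), (nat_lit 43), (nat_lit 47)], .sq 47 60 65 1 82⟩) (.leaf ⟨(nat_lit 4713208413027387310080), [(nat_lit 51)], .killB 41 55 [] [] 210⟩))) (.node (.node (.node (.leaf ⟨(nat_lit 2881187432309238792192), [(nat_lit 39)], .w2 2 4 (nat_lit 3010318589721216811008) 155⟩) (.leaf ⟨(nat_lit 2730118122909013639168),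 [(nat_lit 66), (nat_lit 68)], .killC 48 71 [] [] 306⟩)) (.leaf ⟨(nat_lit 4721860426045891543040), [], .br 45 192 178⟩)) (.node (.leaf ⟨(nat_lit 627189368874868932608), [(nat_lit 46), (nat_lit 65), (nat_lit 69)], .w1 3 114⟩) (.leaf ⟨(nat_lit 4714359082732180471808), [], .br 53 256 242⟩)))))

def nodes2 : Tr TNode :=
  (.node (.node (.node (.node (.node (.leaf ⟨(nat_lit 4722366478265440272384), [(nat_lit 36), (nat_lit 56)], .killB 37 38 [] [] 3⟩) (.leaf ⟨(nat_lit 4345415194058734698496), [(nat_lit 60)], .killA 46 63 [] 259⟩)) (.leaf ⟨(nat_lit 4722150083588136108032), [], .br 41 137 131⟩)) (.node (.leaf ⟨(nat_lit 4722004559101031350272), [(nat_lit 38), (nat_lit 57)], .w1 3 132⟩) (.leaf ⟨(nat_lit 4716667740491161272320), [(nat_lit 49), (nat_lit 61)], .killB 40 64 [] [] 195⟩))) (.node (.node (.node (.leaf ⟨(nat_lit 2730119548425839050752), [(nat_lit 39), (nat_lit 44), (nat_lit 48), (nat_lit 50)], .killE 60 66 71 [] 35⟩) (.leaf ⟨(nat_lit 3135982521327642738688),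 [(nat_lit 65)], .killA 51 71 [] 291⟩)) (.leaf ⟨(nat_lit 4721285337484099584000), [(nat_lit 48), (nat_lit 50)], .sq 48 60 66 1 163⟩)) (.node (.leaf ⟨(nat_lit 1711266670345684254720), [(nat_lit 41), (nat_lit 47), (nat_lit 58)], .sq 41 51 55 1 99⟩) (.leaf ⟨(nat_lit 1223263227186746753024), [(nat_lit 52), (nat_lit 62)], .br 53 236 227⟩)))) (.node (.node (.node (.node (.leaf ⟨(nat_lit 4722150224875380277248), [(nat_lit 39)], .killB 38 41 [] [] 19⟩) (.leaf ⟨(nat_lit 2979167182302602067968), [(nat_lit 54), (nat_lit 64)], .killC 52 71 [] [] 275⟩)) (.leaf ⟨(nat_lit 3934945038188375179264), [(nat_lit 44)], .killA 65 70 [] 147⟩)) (.node (.leaf ⟨(nat_lit 2988374942373854052352), [(nat_lit 40), (nat_lit 43), (nat_lit 47)], .w2 0 5 (nat_lit 2956397124423616823296) 83⟩) (.leaf ⟨(nat_lit 4565598431640691933184), [(nat_lit 51)], .killA 39 53 [] 211⟩))) (.node (.node (.node (.leaf ⟨(nat_lit 4722294420052927053824), [], .br 46 61 51⟩) (.leaf ⟨(nat_lit 368934881474191032320),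 [(nat_lit 66), (nat_lit 68)], .rep 1⟩)) (.leaf ⟨(nat_lit 4721860426045891543040), [(nat_lit 45), (nat_lit 59)], .sq 49 59 66 2 179⟩)) (.node (.leaf ⟨(nat_lit 1189815133491754434560), [(nat_lit 47), (nat_lit 63), (nat_lit 70)], .w2 2 4 (nat_lit 1189816118654172921856) 115⟩) (.leaf ⟨(nat_lit 4714359082732180471808), [(nat_lit 53)], .sq 53 60 70 1 243⟩)))))

def nodes3 : Tr TNode :=
  (.node (.node (.node (.node (.node (.leaf ⟨(nat_lit 4722222362802486509568), [(nat_lit 36), (nat_lit 56)], .sq 36 40 41 1 4⟩) (.leaf ⟨(nat_lit 4336191822021879922688), [(nat_lit 60)], .killA 47 65 [] 260⟩)) (.leaf ⟨(nat_lit 4722150083588136108032), [(nat_lit 41), (nat_lit 58)], .sq 41 50 54 1 132⟩)) (.node (.leaf ⟨(nat_lit 4722150234221229113344), [], .br 40 86 68⟩) (.leaf ⟨(nat_lit 4698202982018942238720), [(nat_lit 49), (nat_lit 61)], .killB 45 68 [] [] 196⟩))) (.node (.node (.node (.leaf ⟨(nat_lit 2361184666951648018432), [(nat_lit 39), (nat_lit 44), (nat_lit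 48), (nat_lit 50)], .w2 0 5 (nat_lit 2364065827221072248832) 36⟩) (.leaf ⟨(nat_lit 774799279892820131840), [(nat_lit 65)], .br 55 294 292⟩)) (.leaf ⟨(nat_lit 4720132415979492737024), [(nat_lit 48), (nat_lit 50)], .killB 36 49 [] [] 164⟩)) (.node (.leaf ⟨(nat_lit 1711264418545870569472), [(nat_lit 41), (nat_lit 47), (nat_lit 58)], .sq 41 62 66 1 100⟩) (.leaf ⟨(nat_lit 1223263227186746753024), [(nat_lit 52), (nat_lit 53), (nat_lit 62)], .sq 53 60 70 1 228⟩)))) (.node (.node (.node (.node (.leaf ⟨(nat_lit 4721861992300205309952), [(nat_lit 39)], .killA 46 47 [] 20⟩) (.leaf ⟨(nat_lit 617983940867779461120), [(nat_lit 54), (nat_lit 64)], .br 63 279 276⟩)) (.leaf ⟨(nat_lit 2754353417470963875840), [(nat_lit 44)], .br 48 155 148⟩)) (.node (.leaf ⟨(nat_lit 2960999804342301097984), [(nat_lit 41), (nat_lit 47), (nat_lit 58)], .w2 2 4 (nat_lit 2444491988426200973312) 187⟩) (.leaf ⟨(nat_lit 4565589424441437192192), [(nat_lit 51)], .sq 51 65 71 1 212⟩)))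 (.node (.node (.node (.leaf ⟨(nat_lit 4722294420052927053824), [(nat_lit 46)], .sq 40 46 48 2 52⟩) (.leaf ⟨(nat_lit 4132070672510939561984), [], .br 69 310 308⟩)) (.leaf ⟨(nat_lit 4719554020086724427776), [(nat_lit 45), (nat_lit 59)], .killB 48 55 [] [] 180⟩)) (.node (.leaf ⟨(nat_lit 1189817244554079764480), [(nat_lit 51), (nat_lit 63), (nat_lit 70)], .w1 3 251⟩) (.leaf ⟨(nat_lit 4713206161227573624832), [(nat_lit 53)], .sq 53 63 71 1 244⟩)))))

def nodes4 : Tr TNode :=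
  (.node (.node (.node (.node (.node (.leaf ⟨(nat_lit 4722222352906881859584), [(nat_lit 36), (nat_lit 56)], .sq 36 44 45 1 5⟩) (.leaf ⟨(nat_lit 4299298333874460819456), [(nat_lit 60)], .killA 51 69 [] 261⟩)) (.leaf ⟨(nat_lit 4722148676213252554752), [(nat_lit 41), (nat_lit 58)], .killB 37 59 [] [] 133⟩)) (.node (.leaf ⟨(nat_lit 4722150234221229113344), [(nat_lit 40), (nat_lit 43)], .killB 36 41 [] [] 69⟩) (.leaf ⟨(nat_lit 4329268100544751206400), [(nat_lit 49), (nat_lit 61)], .killC 38 63 [] [] 197⟩))) (.node (.node (.node (.leaf ⟨(nat_lit 2364642569448352382976), [(nat_lit 39), (nat_lit 49), (nat_lit 60), (nat_lit 61)], .w2 2 4 (nat_lit 2364646518344363540480) 37⟩) (.leaf ⟨(nat_lit 774799279892820131840), [(nat_lit 55), (nat_lit 65), (nat_lit 67)], .killC 38 69 [] [] 293⟩)) (.leaf ⟨(nat_lit 4717826010020325621760), [(nat_lit 48), (nat_lit 50)], .killB 38 52 [] [] 165⟩)) (.node (.leaf ⟨(nat_lit 1706648228927815811072), [(nat_lit 41),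 (nat_lit 47), (nat_lit 58)], .w1 1 101⟩) (.leaf ⟨(nat_lit 1222110305682139906048), [(nat_lit 52), (nat_lit 53), (nat_lit 62)], .killA 60 70 [] 229⟩)))) (.node (.node (.node (.node (.leaf ⟨(nat_lit 4721861851562716954624), [(nat_lit 39)], .sq 39 51 53 1 21⟩) (.leaf ⟨(nat_lit 617983940867779461120), [(nat_lit 54), (nat_lit 63), (nat_lit 64)], .killA 44 69 [] 277⟩)) (.leaf ⟨(nat_lit 2754353417470963875840), [(nat_lit 44), (nat_lit 48), (nat_lit 50)], .sq 48 60 66 1 149⟩)) (.node (.leaf ⟨(nat_lit 2989527723140972544000), [(nat_lit 40), (nat_lit 43)], .w2 0 5 (nat_lit 2956397018870500556800) 85⟩) (.leaf ⟨(nat_lit 4528695936294018088960), [(nat_lit 51)], .killA 60 69 [] 213⟩))) (.node (.node (.node (.leaf ⟨(nat_lit 4722294410157322403840), [(nat_lit 46)], .sq 44 46 51 2 53⟩) (.leaf ⟨(nat_lit 4132070672510939561984), [(nat_lit 69)], .killA 39 70 [] 309⟩)) (.leaf ⟨(nat_lit 4571944038700029050880), [(nat_lit 45), (nat_lit 59)], .killB 49 66 []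 [] 181⟩)) (.node (.leaf ⟨(nat_lit 1549528894728904376320), [(nat_lit 47), (nat_lit 51)], .br 66 120 117⟩) (.leaf ⟨(nat_lit 4703982789190718849024), [(nat_lit 53)], .killB 36 54 [] [] 245⟩)))))

def nodes5 : Tr TNode :=
  (.node (.node (.node (.node (.node (.leaf ⟨(nat_lit 4722222335314695815168), [(nat_lit 36), (nat_lit 56)], .w2 2 4 (nat_lit 4722294401155070951424) 6⟩) (.leaf ⟨(nat_lit 3709002523515755167744), [(nat_lit 60)], .killA 53 70 [] 262⟩)) (.leaf ⟨(nat_lit 4721572180276577042432), [(nat_lit 41), (nat_lit 58)], .sq 41 62 66 1 134⟩)) (.node (.leaf ⟨(nat_lit 4721862001646054146048), [(nat_lit 40), (nat_lit 43)], .killB 38 45 [] [] 70⟩) (.leaf ⟨(nat_lit 4320044728507896430592), [(nat_lit 49), (nat_lit 61)], .killC 41 65 [] [] 198⟩))) (.node (.node (.node (.leaf ⟨(nat_lit 2366952370149670256640), [(nat_lit 44), (nat_lit 52), (nat_lit 60), (nat_lit 62)], .w1 3 38⟩) (.leaf ⟨(nat_lit 184503469534114480128), [(nat_lit 55), (nat_lit 65),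 (nat_lit 67)], .rep 2⟩)) (.leaf ⟨(nat_lit 4713209820402270863360), [(nat_lit 48), (nat_lit 50)], .killB 41 54 [] [] 166⟩)) (.node (.leaf ⟨(nat_lit 2881187432309238792192), [(nat_lit 39), (nat_lit 49), (nat_lit 61)], .w2 2 4 (nat_lit 3010318589721216811008) 156⟩) (.leaf ⟨(nat_lit 41518684964728602624), [(nat_lit 52), (nat_lit 53), (nat_lit 62)], .br 65 234 230⟩)))) (.node (.node (.node (.node (.leaf ⟨(nat_lit 4721859599762903269376), [(nat_lit 39)], .sq 39 52 54 1 22⟩) (.leaf ⟨(nat_lit 27688130509073809408), [(nat_lit 54), (nat_lit 63), (nat_lit 64)], .w2 2 4 (nat_lit 156815339025040670720) 278⟩)) (.leaf ⟨(nat_lit 2753200495966357028864), [(nat_lit 44), (nat_lit 48), (nat_lit 50)], .killB 38 52 [] [] 150⟩)) (.node (.leaf ⟨(nat_lit 2960999681196998787072), [(nat_lit 41), (nat_lit 58)], .w1 1 200⟩) (.leaf ⟨(nat_lit 3938400125935312437248), [(nat_lit 51)], .killA 65 71 [] 214⟩))) (.node (.node (.node (.leaf ⟨(nat_lit 4722294392565136359424),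 [(nat_lit 46)], .killB 40 48 [] [] 54⟩) (.leaf ⟨(nat_lit 2951479051793528258560), [(nat_lit 69)], .w1 3 311⟩)) (.leaf ⟨(nat_lit 4203009157225838018560), [(nat_lit 45), (nat_lit 59)], .killC 36 60 [] [] 182⟩)) (.node (.leaf ⟨(nat_lit 1549528894728904376320), [(nat_lit 47), (nat_lit 51), (nat_lit 66), (nat_lit 68)], .killC 40 70 [] [] 118⟩) (.leaf ⟨(nat_lit 4685518030718499815424), [(nat_lit 53)], .killB 38 55 [] [] 246⟩)))))

def nodes6 : Tr TNode :=
  (.node (.node (.node (.node (.node (.leaf ⟨(nat_lit 4722294410157322403840), [(nat_lit 38), (nat_lit 57)], .w2 0 5 (nat_lit 4721862077787234369536) 11⟩) (.leaf ⟨(nat_lit 2528410902798343864320), [(nat_lit 60)], .br 54 267 263⟩)) (.leaf ⟨(nat_lit 4716955990658522284032), [(nat_lit 41), (nat_lit 58)], .killE 46 49 65 [] 135⟩)) (.node (.leaf ⟨(nat_lit 4721285505709378633728), [(nat_lit 40), (nat_lit 43)], .sq 43 49 54 1 71⟩) (.leaf ⟨(nat_lit 4283151240360477327360), [(nat_lit 49), (nat_lit 61)],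 .killE 44 67 71 [] 199⟩))) (.node (.node (.node (.leaf ⟨(nat_lit 2380800939003834531840), [(nat_lit 44), (nat_lit 54), (nat_lit 60), (nat_lit 64)], .w1 1 39⟩) (.leaf ⟨(nat_lit 627189298506124754944), [(nat_lit 65)], .br 69 297 295⟩)) (.leaf ⟨(nat_lit 4694745061930051829760), [(nat_lit 48), (nat_lit 50)], .killB 45 55 [] [] 167⟩)) (.node (.leaf ⟨(nat_lit 1710978437770509287424), [(nat_lit 47)], .br 51 123 103⟩) (.leaf ⟨(nat_lit 41518684964728602624), [(nat_lit 52), (nat_lit 53), (nat_lit 62), (nat_lit 65)], .w1 3 231⟩)))) (.node (.node (.node (.node (.leaf ⟨(nat_lit 4717243410144848510976), [(nat_lit 39)], .sq 39 63 65 1 23⟩) (.leaf ⟨(nat_lit 156833353423550152704), [(nat_lit 55), (nat_lit 63), (nat_lit 67)], .w1 3 293⟩)) (.leaf ⟨(nat_lit 2748584306348302270464), [(nat_lit 44), (nat_lit 48), (nat_lit 50)], .killB 41 54 [] [] 151⟩)) (.node (.leaf ⟨(nat_lit 4722150224325624463360), [], .br 47 130 87⟩) (.leaf ⟨(nat_lit 1577216884500489830400),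 [(nat_lit 51)], .br 54 218 215⟩))) (.node (.node (.node (.leaf ⟨(nat_lit 4722292985190252806144), [(nat_lit 46)], .sq 45 46 52 2 55⟩) (.leaf ⟨(nat_lit 3541774862152233910272), [], .br 70 313 311⟩)) (.leaf ⟨(nat_lit 4201856235721231171584), [(nat_lit 45), (nat_lit 59)], .killE 46 52 69 [] 183⟩)) (.node (.leaf ⟨(nat_lit 368937274011493072896), [(nat_lit 47), (nat_lit 51), (nat_lit 66), (nat_lit 68)], .w2 0 5 (nat_lit 299795760732287533056) 119⟩) (.leaf ⟨(nat_lit 4537908049331804438528), [(nat_lit 53)], .killA 60 70 [] 247⟩)))))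

def nodes7 : Tr TNode :=
  (.node (.node (.node (.node (.node (.leaf ⟨(nat_lit 4722294425138168332288), [], .br 37 14 8⟩) (.leaf ⟨(nat_lit 2528410902798343864320), [(nat_lit 54), (nat_lit 60), (nat_lit 64)], .killB 37 55 [] [] 264⟩)) (.leaf ⟨(nat_lit 4714649584699355168768), [(nat_lit 41), (nat_lit 58)], .sq 41 51 55 1 136⟩)) (.node (.leaf ⟨(nat_lit 4718979099750211518464), [(nat_lit 40), (nat_lit 43)], .sq 40 52 55 1 72⟩) (.leaf ⟨(nat_lit 4135541258973781950464), [(nat_lit 49), (nat_lit 61)], .killC 55 71 [] [] 200⟩))) (.node (.node (.node (.leaf ⟨(nat_lit 1208282003026298798080), [(nat_lit 51), (nat_lit 54), (nat_lit 63), (nat_lit 64)], .w2 2 4 (nat_lit 1337407241217428684800) 40⟩) (.leaf ⟨(nat_lit 627189298506124754944), [(nat_lit 65), (nat_lit 69)], .killD 29 65 [(nat_lit 66)] [(nat_lit 68)] 296⟩)) (.leaf ⟨(nat_lit 4547135080543356452864), [(nat_lit 48), (nat_lit 50)], .killC 37 51 [] [] 168⟩)) (.node (.leaf ⟨(nat_lit 1710978437770509287424),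 [(nat_lit 47), (nat_lit 51)], .killB 36 52 [] [] 104⟩) (.leaf ⟨(nat_lit 27690382308887494656), [(nat_lit 51), (nat_lit 54), (nat_lit 63), (nat_lit 64)], .quad 232⟩)))) (.node (.node (.node (.node (.leaf ⟨(nat_lit 4708020038107993735168), [(nat_lit 39)], .killB 52 54 [] [] 24⟩) (.leaf ⟨(nat_lit 608760568830924685312), [(nat_lit 54), (nat_lit 64)], .br 69 281 280⟩)) (.leaf ⟨(nat_lit 2730119547876083236864), [(nat_lit 44), (nat_lit 48), (nat_lit 50)], .killE 60 66 71 [] 152⟩)) (.node (.leaf ⟨(nat_lit 4722150224325624463360), [(nat_lit 47)], .sq 44 47 53 2 88⟩) (.leaf ⟨(nat_lit 1577216884500489830400), [(nat_lit 51), (nat_lit 54), (nat_lit 64)], .killB 38 66 [] [] 216⟩))) (.node (.node (.node (.leaf ⟨(nat_lit 4721716489253577293824), [(nat_lit 46)], .killB 45 52 [] [] 56⟩) (.leaf ⟨(nat_lit 3541774862152233910272), [(nat_lit 70)], .killA 46 71 [] 312⟩)) (.leaf ⟨(nat_lit 4197240046103176413184), [(nat_lit 45), (nat_lit 59)], .killE 47 64 70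 [] 184⟩)) (.node (.leaf ⟨(nat_lit 156833494161038508032), [(nat_lit 47), (nat_lit 55), (nat_lit 63), (nat_lit 67)], .w2 2 4 (nat_lit 27707270807490134016) 231⟩) (.leaf ⟨(nat_lit 3357316428614393135104), [(nat_lit 53)], .killA 63 71 [] 248⟩)))))

def nodes8 : Tr TNode :=
  (.node (.node (.node (.node (.node (.leaf ⟨(nat_lit 4722294425138168332288), [(nat_lit 37), (nat_lit 42)], .sq 37 39 40 1 9⟩) (.leaf ⟨(nat_lit 2380800921411648487424), [(nat_lit 54), (nat_lit 60), (nat_lit 64)], .w1 1 265⟩)) (.leaf ⟨(nat_lit 4714647332899541483520), [(nat_lit 41), (nat_lit 58)], .w1 1 194⟩)) (.node (.leaf ⟨(nat_lit 4714362910132156760064), [(nat_lit 40), (nat_lit 43)], .killB 49 54 [] [] 73⟩) (.leaf ⟨(nat_lit 1774358017538959343616), [(nat_lit 49), (nat_lit 61)], .br 51 205 201⟩))) (.node (.node (.node (.leaf ⟨(nat_lit 1337425114878449811456), [(nat_lit 47), (nat_lit 55), (nat_lit 63), (nat_lit 67)], .w2 0 5 (nat_lit 1401957193939041648640) 117⟩) (.leaf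 ⟨(nat_lit 959230691832896684032), [(nat_lit 66), (nat_lit 68), (nat_lit 69)], .killC 37 69 [] [] 306⟩)) (.leaf ⟨(nat_lit 4547132828743542767616), [(nat_lit 48), (nat_lit 50)], .killC 40 53 [] [] 169⟩)) (.node (.leaf ⟨(nat_lit 1706362248152454529024), [(nat_lit 47), (nat_lit 51)], .killB 41 55 [] [] 105⟩) (.leaf ⟨(nat_lit 2411916291237151244288), [(nat_lit 52), (nat_lit 62), (nat_lit 63), (nat_lit 65)], .killA 51 71 [] 233⟩)))) (.node (.node (.node (.node (.leaf ⟨(nat_lit 4689555279635774701568), [(nat_lit 39)], .killA 51 53 [] 25⟩) (.leaf ⟨(nat_lit 608760568830924685312), [(nat_lit 54), (nat_lit 64), (nat_lit 69)], .w2 2 4 (nat_lit 221378943283024101376) 293⟩)) (.leaf ⟨(nat_lit 2361184666401892204544), [(nat_lit 44), (nat_lit 48), (nat_lit 50)], .w2 0 5 (nat_lit 2364065826671316434944) 153⟩)) (.node (.leaf ⟨(nat_lit 4722150206733438418944), [(nat_lit 47)], .killB 37 48 [] [] 89⟩) (.leaf ⟨(nat_lit 1208282003026298798080), [(nat_lit 51),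 (nat_lit 54), (nat_lit 64)], .killC 45 70 [] [] 217⟩))) (.node (.node (.node (.leaf ⟨(nat_lit 4717100299635522535424), [(nat_lit 46)], .killA 39 47 [] 57⟩) (.leaf ⟨(nat_lit 1180591620717411303424), [(nat_lit 70)], .w1 1 314⟩)) (.leaf ⟨(nat_lit 4178775287630957379584), [(nat_lit 45), (nat_lit 59)], .killC 52 69 [] [] 185⟩)) (.node (.leaf ⟨(nat_lit 1180594013254713344000), [(nat_lit 47), (nat_lit 51)], .w2 0 5 (nat_lit 1185203447473327046656) 121⟩) (.leaf ⟨(nat_lit 996133187179570528256), [(nat_lit 53)], .br 65 255 249⟩)))))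

def nodes9 : Tr TNode :=
  (.node (.node (.node (.node (.node (.leaf ⟨(nat_lit 4722294424588412518400), [(nat_lit 37), (nat_lit 42)], .killB 36 38 [] [] 10⟩) (.leaf ⟨(nat_lit 1208279751226485112832), [(nat_lit 54), (nat_lit 63), (nat_lit 64)], .w2 2 4 (nat_lit 1337406959742451974144) 266⟩)) (.leaf ⟨(nat_lit 4721861851012961140736), [], .br 44 160 138⟩)) (.node (.leaf ⟨(nat_lit 4695898151659937726464), [(nat_lit 40), (nat_lit 43)], .killB 52 55 [] [] 74⟩) (.leaf ⟨(nat_lit 1774358017538959343616), [(nat_lit 49), (nat_lit 51), (nat_lit 61)], .sq 51 60 69 1 202⟩))) (.node (.node (.node (.leaf ⟨(nat_lit 2731271062555562344448), [(nat_lit 39), (nat_lit 44)], .w1 1 105⟩) (.leaf ⟨(nat_lit 36893488147419103232), [(nat_lit 65)], .w2 2 4 (nat_lit 295147905179352825856) 298⟩)) (.leaf ⟨(nat_lit 4547123821544288026624), [(nat_lit 48), (nat_lit 50)], .killE 60 66 71 [] 170⟩)) (.node (.leaf ⟨(nat_lit 1558752266765759152128), [(nat_lit 47), (nat_lit 51)],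 .br 63 116 106⟩) (.leaf ⟨(nat_lit 50733049802328637440), [(nat_lit 52), (nat_lit 62), (nat_lit 63), (nat_lit 65)], .killA 32 63 [] 235⟩)))) (.node (.node (.node (.node (.leaf ⟨(nat_lit 4689546272436519960576), [(nat_lit 39)], .killA 63 65 [] 26⟩) (.leaf ⟨(nat_lit 18464758472219033600), [(nat_lit 54), (nat_lit 64)], .w2 2 4 (nat_lit 147591966988185894912) 282⟩)) (.leaf ⟨(nat_lit 2364642568898596569088), [(nat_lit 49), (nat_lit 60), (nat_lit 61)], .w2 2 4 (nat_lit 2364646509548270518272) 154⟩)) (.node (.leaf ⟨(nat_lit 4722148799358554865664), [(nat_lit 47)], .sq 45 47 54 2 90⟩) (.leaf ⟨(nat_lit 27690382308887494656), [(nat_lit 51), (nat_lit 54), (nat_lit 64)], .w1 3 229⟩))) (.node (.node (.node (.leaf ⟨(nat_lit 4717100158898034180096), [(nat_lit 46)], .sq 41 46 49 2 58⟩) (.leaf ⟨(nat_lit 2361183241434822606848), [], .br 71 315 314⟩)) (.leaf ⟨(nat_lit 3588479477272251727872), [(nat_lit 45), (nat_lit 59)], .killC 54 70 [] [] 186⟩)) (.node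 (.leaf ⟨(nat_lit 1189815133491754434560), [(nat_lit 47), (nat_lit 63)], .w2 2 4 (nat_lit 1189816118654172921856) 122⟩) (.leaf ⟨(nat_lit 996133187179570528256), [(nat_lit 53), (nat_lit 65)], .killB 37 66 [] [] 250⟩)))))

def nodes10 : Tr TNode :=
  (.node (.node (.node (.node (.node (.leaf ⟨(nat_lit 4722150309125458755584), [(nat_lit 37), (nat_lit 42)], .sq 41 42 45 2 11⟩) (.leaf ⟨(nat_lit 1337424974140961456128), [(nat_lit 55), (nat_lit 63), (nat_lit 67)], .w1 3 292⟩)) (.leaf ⟨(nat_lit 4721861851012961140736), [(nat_lit 44)], .killB 36 45 [] [] 139⟩)) (.node (.leaf ⟨(nat_lit 4548288170273242349568), [(nat_lit 40), (nat_lit 43)], .killC 37 44 [] [] 75⟩) (.leaf ⟨(nat_lit 1773205096034352496640), [(nat_lit 49), (nat_lit 51), (nat_lit 61)], .killA 39 53 [] 203⟩))) (.node (.node (.node (.leaf ⟨(nat_lit 2881765335620797857792), [(nat_lit 39)], .br 48 46 43⟩) (.leaf ⟨(nat_lit 590295810358705651712), [(nat_lit 69)], .w1 3 312⟩)) (.leaf ⟨(nat_lit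 4178188940070096994304), [(nat_lit 48), (nat_lit 50)], .killC 66 71 [] [] 171⟩)) (.node (.leaf ⟨(nat_lit 1558752266765759152128), [(nat_lit 47), (nat_lit 51), (nat_lit 63)], .killB 40 66 [] [] 107⟩) (.leaf ⟨(nat_lit 4625196817309499392), [(nat_lit 52), (nat_lit 53), (nat_lit 62)], .w2 0 5 (nat_lit 27672367910378012672) 235⟩)))) (.node (.node (.node (.node (.leaf ⟨(nat_lit 4652652784289100857344), [(nat_lit 39)], .sq 39 69 70 1 27⟩) (.leaf ⟨(nat_lit 147609981386695376896), [(nat_lit 55), (nat_lit 67)], .w2 0 5 (nat_lit 221360928884514619392) 306⟩)) (.leaf ⟨(nat_lit 2366952352557484212224), [(nat_lit 52), (nat_lit 60), (nat_lit 62)], .w1 3 264⟩)) (.node (.leaf ⟨(nat_lit 4721572303421879353344), [(nat_lit 47)], .killB 38 49 [] [] 91⟩) (.leaf ⟨(nat_lit 1558752126028270796800), [(nat_lit 51)], .w1 3 248⟩))) (.node (.node (.node (.leaf ⟨(nat_lit 4716811926322859212800), [(nat_lit 46)], .killB 41 49 [] [] 59⟩) (.leaf ⟨(nat_lit 2361183241434822606848),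 [(nat_lit 71)], .rep 0⟩)) (.leaf ⟨(nat_lit 2407887856554840424448), [(nat_lit 45), (nat_lit 59)], .br 51 191 187⟩)) (.node (.leaf ⟨(nat_lit 1189817244554079764480), [(nat_lit 51), (nat_lit 63)], .w1 3 250⟩) (.leaf ⟨(nat_lit 627198305705379495936), [(nat_lit 53), (nat_lit 65)], .br 69 253 251⟩)))))

def nodes11 : Tr TNode :=
  (.node (.node (.node (.node (.node (.leaf ⟨(nat_lit 4721862076550283788288), [(nat_lit 37), (nat_lit 42)], .killE 39 40 44 [] 12⟩) (.leaf ⟨(nat_lit 2509946144326124830720), [(nat_lit 60)], .w1 1 268⟩)) (.leaf ⟨(nat_lit 4721285355076285628416), [(nat_lit 44)], .sq 44 49 55 1 140⟩)) (.node (.leaf ⟨(nat_lit 4548288152681056305152), [(nat_lit 40), (nat_lit 43)], .killE 46 48 53 [] 76⟩) (.leaf ⟨(nat_lit 1773196088835097755648), [(nat_lit 49), (nat_lit 51), (nat_lit 61)], .w1 3 204⟩))) (.node (.node (.node (.leaf ⟨(nat_lit 2881765335620797857792), [(nat_lit 39), (nat_lit 48), (nat_lit 50)], .sq 45 48 55 2 44⟩) (.leaf ⟨(nat_lit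 4648615535371825971200), [], .br 55 302 300⟩)) (.leaf ⟨(nat_lit 1817005698635274387456), [(nat_lit 48), (nat_lit 50)], .br 63 173 172⟩)) (.node (.leaf ⟨(nat_lit 1189817385291568119808), [(nat_lit 47), (nat_lit 51), (nat_lit 63)], .br 70 110 108⟩) (.leaf ⟨(nat_lit 41509677765473861632), [(nat_lit 52), (nat_lit 62), (nat_lit 65)], .w1 3 277⟩)))) (.node (.node (.node (.node (.leaf ⟨(nat_lit 4062356973930395205632), [(nat_lit 39)], .killA 69 70 [] 28⟩) (.leaf ⟨(nat_lit 4694732395556099850240), [], .br 63 287 284⟩)) (.leaf ⟨(nat_lit 2754352010096080322560), [(nat_lit 44)], .br 52 159 156⟩)) (.node (.leaf ⟨(nat_lit 4719265897462712238080), [(nat_lit 47)], .sq 47 60 65 1 92⟩) (.leaf ⟨(nat_lit 4718975272350235230208), [], .br 52 241 220⟩))) (.node (.node (.node (.leaf ⟨(nat_lit 4714505520363692097536), [(nat_lit 46)], .sq 46 60 63 1 60⟩) (.leaf ⟨(nat_lit 0), [], .one⟩)) (.leaf ⟨(nat_lit 2407887856554840424448), [(nat_lit 45), (nat_lit 51), (nat_lit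 59)], .killA 39 53 [] 188⟩)) (.node (.leaf ⟨(nat_lit 1710976185970695602176), [(nat_lit 47)], .br 52 129 124⟩) (.leaf ⟨(nat_lit 627198305705379495936), [(nat_lit 53), (nat_lit 65), (nat_lit 69)], .killD 14 53 [(nat_lit 55)] [(nat_lit 67)] 252⟩)))))

def nodes12 : Tr TNode :=
  (.node (.node (.node (.node (.node (.leaf ⟨(nat_lit 4721862066654679138304), [(nat_lit 37), (nat_lit 42)], .sq 37 47 48 1 13⟩) (.leaf ⟨(nat_lit 1337424974140961456128), [(nat_lit 63)], .w1 3 291⟩)) (.leaf ⟨(nat_lit 4718978949117118513152), [(nat_lit 44)], .killB 49 55 [] [] 141⟩)) (.node (.leaf ⟨(nat_lit 4548286745306172751872), [(nat_lit 40), (nat_lit 43)], .sq 40 63 66 1 77⟩) (.leaf ⟨(nat_lit 1773202844234538811392), [(nat_lit 49), (nat_lit 53), (nat_lit 61)], .w2 2 4 (nat_lit 1256697950820345315328) 228⟩))) (.node (.node (.node (.leaf ⟨(nat_lit 2881188839684122345472), [(nat_lit 39), (nat_lit 48), (nat_lit 50)], .sq 48 60 66 1 45⟩) (.leaf ⟨(nat_lit 4648615535371825971200),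 [(nat_lit 55), (nat_lit 67)], .killB 36 68 [] [] 301⟩)) (.leaf ⟨(nat_lit 1817005698635274387456), [(nat_lit 48), (nat_lit 50), (nat_lit 63)], .w2 0 5 (nat_lit 1773216073558444212224) 202⟩)) (.node (.leaf ⟨(nat_lit 1189817385291568119808), [(nat_lit 47), (nat_lit 51), (nat_lit 63), (nat_lit 70)], .killD 12 47 [(nat_lit 54)] [(nat_lit 64)] 109⟩) (.leaf ⟨(nat_lit 1223254219987492012032), [(nat_lit 52), (nat_lit 62)], .br 60 240 237⟩)))) (.node (.node (.node (.node (.leaf ⟨(nat_lit 2881765353212983902208), [(nat_lit 39)], .br 44 42 29⟩) (.leaf ⟨(nat_lit 4694732395556099850240), [(nat_lit 63)], .killB 40 66 [] [] 285⟩)) (.leaf ⟨(nat_lit 2754352010096080322560), [(nat_lit 44), (nat_lit 52), (nat_lit 62)], .killE 39 64 71 [] 157⟩)) (.node (.leaf ⟨(nat_lit 4718112975958105391104), [(nat_lit 47)], .killB 45 54 [] [] 93⟩) (.leaf ⟨(nat_lit 4718975272350235230208), [(nat_lit 52), (nat_lit 62)], .killB 40 55 [] [] 221⟩))) (.node (.node (.leaf ⟨(nat_lit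 4713352598859085250560), [(nat_lit 46)], .w1 3 93⟩) (.leaf ⟨(nat_lit 2407878849355585683456), [(nat_lit 45), (nat_lit 51), (nat_lit 59)], .sq 51 65 71 1 189⟩)) (.node (.leaf ⟨(nat_lit 1710976185970695602176), [(nat_lit 47), (nat_lit 52), (nat_lit 62)], .killB 40 55 [] [] 125⟩) (.leaf ⟨(nat_lit 774799279892820131840), [(nat_lit 55), (nat_lit 65), (nat_lit 67), (nat_lit 69)], .killC 38 69 [] [] 293⟩)))))

def nodes13 : Tr TNode :=
  (.node (.node (.node (.node (.node (.leaf ⟨(nat_lit 4721861925917190782976), [(nat_lit 37), (nat_lit 42)], .w1 3 69⟩) (.leaf ⟨(nat_lit 4713197154028318883840), [], .br 54 283 270⟩)) (.leaf ⟨(nat_lit 4571368967730423136256), [(nat_lit 44)], .killA 46 51 [] 142⟩)) (.node (.leaf ⟨(nat_lit 4539063373269317976064), [(nat_lit 40), (nat_lit 43)], .killC 48 53 [] [] 78⟩) (.leaf ⟨(nat_lit 1774355765739145658368), [(nat_lit 49), (nat_lit 61)], .w2 2 4 (nat_lit 1257850872324952162304) 226⟩))) (.node (.node (.node (.leaf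 ⟨(nat_lit 2880035918179515498496), [(nat_lit 39), (nat_lit 48), (nat_lit 50)], .w2 2 4 (nat_lit 3009168060753912004608) 149⟩) (.leaf ⟨(nat_lit 4279680653897634938880), [(nat_lit 55), (nat_lit 67)], .w2 0 5 (nat_lit 4353431601395454181376) 303⟩)) (.leaf ⟨(nat_lit 1807782326598419611648), [(nat_lit 48), (nat_lit 50)], .br 65 175 174⟩)) (.node (.leaf ⟨(nat_lit 1208282003026298798080), [(nat_lit 51), (nat_lit 54), (nat_lit 63), (nat_lit 64), (nat_lit 70)], .killC 45 70 [] [] 231⟩) (.leaf ⟨(nat_lit 1223254219987492012032), [(nat_lit 52), (nat_lit 60), (nat_lit 62)], .killA 47 65 [] 238⟩)))) (.node (.node (.node (.node (.leaf ⟨(nat_lit 2881765353212983902208), [(nat_lit 39), (nat_lit 44)], .killB 36 45 [] [] 30⟩) (.leaf ⟨(nat_lit 4325797514081908817920), [(nat_lit 63)], .killA 39 65 [] 286⟩)) (.leaf ⟨(nat_lit 2735887251623861288960), [(nat_lit 44), (nat_lit 52), (nat_lit 62)], .w1 3 158⟩)) (.node (.leaf ⟨(nat_lit 4699648217485886357504), [(nat_lit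 47)], .killA 44 53 [] 94⟩) (.leaf ⟨(nat_lit 4571365290963539853312), [(nat_lit 52), (nat_lit 62)], .killB 41 66 [] [] 222⟩))) (.node (.node (.leaf ⟨(nat_lit 4722294349684182876160), [], .br 38 67 62⟩) (.leaf ⟨(nat_lit 2370985361208166580224), [(nat_lit 45), (nat_lit 51), (nat_lit 59)], .w1 3 190⟩)) (.node (.leaf ⟨(nat_lit 1563366204584000225280), [(nat_lit 47), (nat_lit 52), (nat_lit 62)], .w2 2 4 (nat_lit 1821617666128678486016) 126⟩) (.leaf ⟨(nat_lit 36902495346673844224), [(nat_lit 53), (nat_lit 65)], .w2 2 4 (nat_lit 295156912378607566848) 254⟩)))))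

def nodes14 : Tr TNode :=
  (.node (.node (.node (.node (.node (.leaf ⟨(nat_lit 4722294420602682867712), [], .br 39 50 15⟩) (.leaf ⟨(nat_lit 4713197154028318883840), [(nat_lit 54), (nat_lit 64)], .killB 37 55 [] [] 271⟩)) (.leaf ⟨(nat_lit 4571366715930609451008), [(nat_lit 44)], .sq 44 63 69 1 143⟩)) (.node (.leaf ⟨(nat_lit 4539054366070063235072), [(nat_lit 40), (nat_lit 43)], .killE 63 66 70 [] 79⟩) (.leaf ⟨(nat_lit 4718977524150048915456), [], .br 51 219 207⟩))) (.node (.node (.node (.leaf ⟨(nat_lit 2881763928245914304512), [(nat_lit 39)], .br 45 49 47⟩) (.leaf ⟨(nat_lit 4501005553985130594304), [], .br 66 307 303⟩)) (.leaf ⟨(nat_lit 1807782326598419611648), [(nat_lit 48), (nat_lit 50), (nat_lit 65)], .w2 0 5 (nat_lit 1773211569958816841728) 204⟩)) (.node (.leaf ⟨(nat_lit 9225764574156816384), [(nat_lit 47), (nat_lit 51), (nat_lit 63)], .w1 3 111⟩) (.leaf ⟨(nat_lit 1186360731840072908800), [(nat_lit 52), (nat_lit 60), (nat_lit 62)],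 .w1 3 239⟩)))) (.node (.node (.node (.node (.leaf ⟨(nat_lit 2881188857276308389888), [(nat_lit 39), (nat_lit 44)], .sq 44 49 55 1 31⟩) (.leaf ⟨(nat_lit 4288904025934489714688), [(nat_lit 63)], .w1 3 289⟩)) (.leaf ⟨(nat_lit 2749735820478025564160), [(nat_lit 44), (nat_lit 54), (nat_lit 64)], .w1 1 215⟩)) (.node (.leaf ⟨(nat_lit 4699639210286631616512), [(nat_lit 47)], .killA 60 65 [] 95⟩) (.leaf ⟨(nat_lit 4202430409489348820992), [(nat_lit 52), (nat_lit 62)], .killC 36 63 [] [] 223⟩))) (.node (.node (.leaf ⟨(nat_lit 4722294349684182876160), [(nat_lit 38), (nat_lit 57)], .sq 38 43 45 1 63⟩) (.leaf ⟨(nat_lit 2398662232718171963392), [(nat_lit 45), (nat_lit 53), (nat_lit 59)], .w1 1 228⟩)) (.node (.leaf ⟨(nat_lit 1561058531987437912064), [(nat_lit 49), (nat_lit 51), (nat_lit 61)], .w1 3 127⟩) (.leaf ⟨(nat_lit 590304817557960392704), [(nat_lit 53), (nat_lit 69)], .w2 0 5 (nat_lit 608742554432415203328) 295⟩)))))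

def nodes15 : Tr TNode :=
  (.node (.node (.node (.node (.node (.leaf ⟨(nat_lit 4722294420602682867712), [(nat_lit 39)], .sq 38 39 41 2 16⟩) (.leaf ⟨(nat_lit 4565587172641623506944), [(nat_lit 54), (nat_lit 64)], .killB 38 66 [] [] 272⟩)) (.leaf ⟨(nat_lit 4562143343893754675200), [(nat_lit 44)], .killA 47 53 [] 144⟩)) (.node (.leaf ⟨(nat_lit 4170119484595872202752), [(nat_lit 40), (nat_lit 43)], .killC 66 70 [] [] 80⟩) (.leaf ⟨(nat_lit 4718977524150048915456), [(nat_lit 51)], .sq 51 60 69 1 208⟩))) (.node (.node (.node (.leaf ⟨(nat_lit 2881763928245914304512), [(nat_lit 39), (nat_lit 45), (nat_lit 59)], .sq 49 59 66 2 48⟩) (.leaf ⟨(nat_lit 4501005553985130594304), [(nat_lit 66), (nat_lit 68)], .killC 37 69 [] [] 304⟩)) (.leaf ⟨(nat_lit 1770888838451000508416), [(nat_lit 48), (nat_lit 50)], .w2 0 5 (nat_lit 1773193555560307359744) 176⟩)) (.node (.leaf ⟨(nat_lit 36902565715418021888), [(nat_lit 46), (nat_lit 53), (nat_lit 65)], .w2 2 4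 (nat_lit 295156982747351744512) 112⟩) (.leaf ⟨(nat_lit 609913490335531532288), [(nat_lit 54), (nat_lit 60), (nat_lit 64)], .w1 1 276⟩)))) (.node (.node (.node (.node (.leaf ⟨(nat_lit 2878882451317141274624), [(nat_lit 39), (nat_lit 44)], .killB 49 55 [] [] 32⟩) (.leaf ⟨(nat_lit 4685509023519245074432), [], .br 65 299 288⟩)) (.leaf ⟨(nat_lit 2749735820478025564160), [(nat_lit 44)], .w1 1 214⟩)) (.node (.leaf ⟨(nat_lit 4662745722139212513280), [(nat_lit 47)], .sq 47 69 71 1 96⟩) (.leaf ⟨(nat_lit 4193207037452494045184), [(nat_lit 52), (nat_lit 62)], .killE 39 64 71 [] 224⟩))) (.node (.node (.leaf ⟨(nat_lit 4722294339788578226176), [(nat_lit 38), (nat_lit 57)], .sq 38 47 49 1 64⟩) (.leaf ⟨(nat_lit 2407885604755026739200), [(nat_lit 45), (nat_lit 59)], .w1 1 226⟩)) (.node (.leaf ⟨(nat_lit 998439593138737643520), [(nat_lit 49), (nat_lit 53), (nat_lit 61)], .w2 2 4 (nat_lit 998443533788411592704) 128⟩) (.leaf ⟨(nat_lit 959239699032151425024),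 [(nat_lit 53)], .w2 0 5 (nat_lit 903926488408786993152) 291⟩)))))

/-- The nodes. -/
def nodes : Tr TNode := (.node (.node (.node (.node nodes0 nodes8) (.node nodes4 nodes12)) (.node (.node nodes2 nodes10) (.node nodes6 nodes14))) (.node (.node (.node nodes1 nodes9) (.node nodes5 nodes13)) (.node (.node nodes3 nodes11) (.node nodes7 nodes15))))

theorem node_ok0 : ((List.range' 0 80).all fun p => force p fun p => okNode E6.tab nodes 316 p) = true := by decide +kernel

theorem node_ok80 : ((List.range' 80 80).all fun p => force p fun p => okNode E6.tab nodes 316 p) = true := by decide +kernel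

theorem node_ok160 : ((List.range' 160 80).all fun p => force p fun p => okNode E6.tab nodes 316 p) = true := by decide +kernel

theorem node_ok240 : ((List.range' 240 76).all fun p => force p fun p => okNode E6.tab nodes 316 p) = true := by decide +kernel

theorem root_ok : rootOk E6.tab nodes = true := by decide +kernel

theorem node_ok : ∀ i, i < 316 → okNode E6.tab nodes 316 i = true := fun i hi =>
  (chunkF (P := fun p => okNode E6.tab nodes 316 p) node_ok0 (chunkF (P := fun p => okNode E6.tab nodes 316 p) node_ok80 (chunkF (P := fun p => okNode E6.tab nodes 316 p) node_ok160 (chunkF (P := fun p => okNode E6.tab nodes 316 p) node_ok240 (chunk_end (n := 316) (lo := 316) le_rfl))))) i (Nat.zero_le i) hi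

end Cfsg.Agent.Small.C2Inv.TwE6
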