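import Cfsg.Agent.Lib.Small.Char2Invol.TwE6.Tools

/-!
The certificate checker for involutions of the fixed part of U in ²E₆(q), q even.
-/

set_option autoImplicit false
set_option linter.unusedSectionVars false

namespace Cfsg.Agent.Small.C2Inv.TwE6

open Cfsg.Lie Cfsg.Agent.Lie Cfsg.Agent.Small.C2Inv.Cert
open Cfsg.Agent.Lie.E6 (Setup)
open scoped MatrixGroups

/-- A step of a twisted certificate. -/
inductive TStp where
  | one
  | sq (a b s kind child : ℕ)
  | br (a c0 c1 : ℕ)
  | w1 (i child : ℕ)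
  | w2 (i j mid child : ℕ)
  | killA (p r : ℕ) (new : List ℕ) (child : ℕ)
  | killE (p r s : ℕ) (new : List ℕ) (child : ℕ)
  | killB (p r : ℕ) (new1 new2 : List ℕ) (child : ℕ)
  | killC (p r : ℕ) (new1 new2 : List ℕ) (child : ℕ)
  | killD (p r : ℕ) (new1 new2 : List ℕ) (child : ℕ)
  | quad (child : ℕ)
  | rep (j : ℕ)

/-- A node. -/
structure TNode where
  L : ℕ
  nz : List ℕ
  step : TStp

/-- Remove an orbit. -/
def remOrb (L a : ℕ) : ℕ := rem (rem L a) (graphE6.img a)

/-- A later node. -/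
def later (n i child : ℕ) : Bool := Nat.ble (i + 1) child && Nat.ble (child + 1) n

/-- Conditions of one conjugation step. -/
def stepOk (T : Tab) (p L : ℕ) (new : List ℕ) : Bool :=
  Nat.ble (p + 1) 72 && !(has L (chevE6.neg p)) && extB chevE6 T L new &&
    (entries T p L).all fun e => has (addBits L new) e.2.1

/-- A step by a single fixed root followed by removal. -/
def singleOk (T : Tab) (L : ℕ) (nz : List ℕ) (p r : ℕ) (new : List ℕ) (nd' : TNode) : Bool :=
  stepOk T p L new && Nat.beq (graphE6.img p) p && symB (addBits L new) && inI T L r &&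
    inI T (addBits L new) r && inI T (addBits L new) (graphE6.img r) &&
    Nat.beq nd'.L (remOrb (addBits L new) r) &&
    nd'.nz.all fun s => !(Nat.beq r s) && !(Nat.beq (graphE6.img r) s) && inI T (addBits L new) s &&
      ((noneAt (entries T p L) s && mem' s nz) ||
        (mem' r nz && !(has L s) && oneIn (entries T p L) s nz))

/-- A step by a pair of roots followed by removal. -/
def pairOk (T : Tab) (L : ℕ) (nz : List ℕ) (p r : ℕ) (new1 new2 : List ℕ) (nd' : TNode) : Bool :=
  let L1 := addBits L new1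
  let L2 := addBits L1 new2
  let E1 := entries T p L
  let E2 := entries T (graphE6.img p) L1
  stepOk T p L new1 && stepOk T (graphE6.img p) L1 new2 && !(Nat.beq (graphE6.img p) p) && symB L2 &&
    inI T L r && inI T L1 r && inI T L2 r && inI T L2 (graphE6.img r) && Nat.beq nd'.L (remOrb L2 r) &&
    nd'.nz.all fun s => !(Nat.beq r s) && !(Nat.beq (graphE6.img r) s) && inI T L2 s &&
      ((mem' s nz && inI T L1 s && noneAt E1 s && noneAt E2 s) ||
        (mem' r nz && !(has L s) && inI T L1 s && oneIn E1 s nz && noneAt E2 s) ||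
        (mem' r nz && !(has L1 s) && oneVia T L1 E1 E2 s nz))

/-- The roots of the quadruple. -/
def quadL : List ℕ := [51, 54, 63, 64]

/-- The roots after the quadruple step. -/
def quadL' : List ℕ := [52, 62, 63, 65, 71]

/-- The representatives. -/
def repsL : List (List ℕ) := [[71], [66, 68], [55, 65, 67]]

/-- One node. -/
def okNode (T : Tab) (nodes : Tr TNode) (n i : ℕ) : Bool :=
  let nd := nodes.get i
  let L := nd.L
  let nz := nd.nz
  symB L &&
  match nd.step with
  | .one => Nat.beq L 0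
  | .sq a b s kind child =>
    decB T L a b s &&
    (match kind with
      | 0 => mem' a nz && mem' b nz
      | 1 => mem' a nz && later n i child && goodR T L b &&
          Nat.beq (nodes.get child).L (remOrb L b) && (nodes.get child).nz.all fun x => mem' x nz
      | _ => mem' b nz && later n i child && goodR T L a &&
          Nat.beq (nodes.get child).L (remOrb L a) && (nodes.get child).nz.all fun x => mem' x nz)
  | .br a c0 c1 =>
    goodR T L a && later n i c0 && later n i c1 &&
    Nat.beq (nodes.get c0).L (remOrb L a) && ((nodes.get c0).nz.all fun x => mem' x nz) &&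
    Nat.beq (nodes.get c1).L L && (nodes.get c1).nz.all fun x => mem' x (a :: graphE6.img a :: nz)
  | .w1 k child =>
    Nat.ble (k + 1) 6 && Nat.beq (graphE6.img (chevE6.simple k)) (chevE6.simple k) &&
    !(has L (chevE6.simple k)) && later n i child && posMask chevE6 (nodes.get child).L &&
    ((Facts.posL chevE6).all fun s => has (nodes.get child).L s == has L (T.R chevE6 k s)) &&
    (nodes.get child).nz.all fun s => inI T (nodes.get child).L s && mem' (T.R chevE6 k s) nz
  | .w2 k l mid child =>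
    decide ((k, l) ∈ [(0, 5), (2, 4)]) && !(has L (chevE6.simple k)) && !(has mid (chevE6.simple l)) &&
    later n i child && posMask chevE6 mid && posMask chevE6 (nodes.get child).L &&
    ((Facts.posL chevE6).all fun s => has mid s == has L (T.R chevE6 k s)) &&
    ((Facts.posL chevE6).all fun s => has (nodes.get child).L s == has mid (T.R chevE6 l s)) &&
    (nodes.get child).nz.all fun s => inI T (nodes.get child).L s && inI T mid (T.R chevE6 l s) &&
      mem' (T.R chevE6 k (T.R chevE6 l s)) nz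
  | .killA p r new child =>
    later n i child && singleOk T L nz p r new (nodes.get child) && Nat.beq (graphE6.img r) r &&
    (match one1 (entries T p L) r with
      | some e => mem' e nz && Nat.beq (graphE6.img e) e && inI T L e
      | none => false)
  | .killE p r s new child =>
    later n i child && singleOk T L nz p r new (nodes.get child) &&
    (match one1 (entries T p L) r with
      | some e => mem' e nz && goodR T L e && inI T L (graphE6.img r) &&
          inI T (addBits L new) e && noneAt (entries T p L) e &&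
          (match one1 (entries T p L) (graphE6.img r) with
            | some e' => Nat.beq e' (graphE6.img e)
            | none => false) &&
          !(Nat.beq r e) && !(Nat.beq r (graphE6.img r)) &&
          decB T (rem (addBits L new) r) (min (graphE6.img r) e) (max (graphE6.img r) e) s
      | none => false)
  | .killB p r new1 new2 child =>
    later n i child && pairOk T L nz p r new1 new2 (nodes.get child) &&
    oneIn (entries T p L) r nz && noneAt (entries T (graphE6.img p) (addBits L new1)) r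
  | .killC p r new1 new2 child =>
    later n i child && pairOk T L nz p r new1 new2 (nodes.get child) && Nat.beq (graphE6.img r) r &&
    (match one1 (entries T p L) r, one1 (entries T (graphE6.img p) (addBits L new1)) r with
      | some e, some f => mem' e nz && goodR T L e && Nat.beq f (graphE6.img e) &&
          inI T (addBits L new1) f && noneAt (entries T p L) f
      | _, _ => false)
  | .killD p r new1 new2 child =>
    later n i child && pairOk T L nz p r new1 new2 (nodes.get child) && Nat.beq (graphE6.img r) r &&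
    noneAt (entries T p L) r &&
    (match one1 (entries T (graphE6.img p) (addBits L new1)) r with
      | some f => !(has L f) && inI T (addBits L new1) f &&
          (match one1 (entries T p L) f with
            | some e => mem' e nz && Nat.beq (graphE6.img e) e && inI T L e
            | none => false)
      | none => false)
  | .quad child =>
    later n i child && Nat.beq L (addBits 0 quadL) && (quadL.all fun x => mem' x nz) &&
    Nat.beq (nodes.get child).L (addBits 0 quadL') &&
    (nodes.get child).nz.all fun x => mem' x [52, 62, 63, 65]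
  | .rep j =>
    Nat.ble (j + 1) 3 && Nat.beq L (addBits 0 (repsL.getD j [])) &&
      (repsL.getD j []).all fun x => mem' x nz

/-- The root node. -/
def rootOk (T : Tab) (nodes : Tr TNode) : Bool :=
  Nat.beq (nodes.get 0).L (addBits 0 (Facts.posL chevE6)) && (nodes.get 0).nz.isEmpty &&
    extB chevE6 T 0 (Facts.posL chevE6)

variable {K : Type*} [Field K] [Fintype K] [CharP K 2] {q : ℕ}

/-- A predicate invariant under conjugation in the twisted group, true at the representatives. -/
structure TTarget (K : Type*) [Field K] (q : ℕ) where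
  Std : GL chevE6.Idx K → Prop
  of_ct : ∀ {u v : GL chevE6.Idx K}, CT q u v → Std v → Std u
  of_rep : ∀ j, j < 3 → ∀ c : ℕ → K, Supp chevE6 (addBits 0 (repsL.getD j [])) c →
    el factsE6 c ∈ twistedE6 K q → (∀ x ∈ repsL.getD j [], c x ≠ 0) → Std (el factsE6 c)
  of_quad : ∀ c : ℕ → K, Supp chevE6 (addBits 0 quadL) c → el factsE6 c ∈ twistedE6 K q →
    (∀ x ∈ quadL, c x ≠ 0) → ∃ c' : ℕ → K, Closed chevE6 (addBits 0 quadL') ∧
      Supp chevE6 (addBits 0 quadL') c' ∧ (∀ x ∈ [52, 62, 63, 65], c' x ≠ 0) ∧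
      el factsE6 c' ∈ twistedE6 K q ∧ CT q (el factsE6 c) (el factsE6 c')

/-- The meaning of a node. -/
def Good (P : TTarget K q) (nd : TNode) : Prop :=
  Closed chevE6 nd.L → ∀ c : ℕ → K, Supp chevE6 nd.L c → el factsE6 c ∈ twistedE6 K q →
    el factsE6 c * el factsE6 c = 1 → el factsE6 c ≠ 1 → (∀ x ∈ nd.nz, c x ≠ 0) → P.Std (el factsE6 c)

theorem symB_spec {L : ℕ} (h : symB L = true) (hL : Closed chevE6 L) :
    ∀ r, has L r = true → has L (graphE6.img r) = true := by
  intro r hr
  simp only [symB, List.all_eq_true, Bool.or_eq_true, Bool.not_eq_true'] at h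
  rcases h r (Facts.mem_posL.2 (hL.pos r hr)) with h' | h'
  · rw [hr] at h'; cases h'
  · exact h'

theorem later_spec {n i child : ℕ} (h : later n i child = true) : i < child ∧ child < n := by
  simp only [later, Bool.and_eq_true] at h
  exact ⟨Nat.le_of_ble_eq_true h.1, Nat.le_of_ble_eq_true h.2⟩

variable {T : Tab} (hT : TabOk chevE6 T) (S : Setup K q)

include hT

theorem inI_spec {L r : ℕ} (hL : Closed chevE6 L) (h : inI T L r = true) :
    has L r = true ∧ Indec chevE6 L r ∧ r < 72 := by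
  rw [inI, Bool.and_eq_true] at h
  exact ⟨h.1, indec_of_indecB factsE6 hT hL h.2, (hL.pos r h.1).2⟩

theorem goodR_spec {L r : ℕ} (hL : Closed chevE6 L) (h : goodR T L r = true) :
    (has L r = true ∧ Indec chevE6 L r) ∧ (has L (graphE6.img r) = true ∧ Indec chevE6 L (graphE6.img r)) ∧
      r < 72 := by
  simp only [goodR, Bool.and_eq_true] at h
  exact ⟨⟨h.1.1.1, indec_of_indecB factsE6 hT hL h.1.1.2⟩, ⟨h.1.2, indec_of_indecB factsE6 hT hL h.2⟩,
    (hL.pos r h.1.1.1).2⟩

omit hT in
theorem remOrb_closed {L a : ℕ} (hL : Closed chevE6 L) (h1 : Indec chevE6 L a)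
    (h2 : Indec chevE6 L (graphE6.img a)) : Closed chevE6 (remOrb L a) :=
  (hL.remove h1).remove fun x x' hx hx' => h2 x x' (has_rem_iff.1 hx).2 (has_rem_iff.1 hx').2

omit hT in
theorem remOrb_supp {L a : ℕ} {c : ℕ → K} (hc : Supp chevE6 L c) (h1 : c a = 0)
    (h2 : c (graphE6.img a) = 0) : Supp chevE6 (remOrb L a) c :=
  rem_supp (rem_supp hc h1) h2

theorem conj1 {p L : ℕ} {new : List ℕ} (h : stepOk T p L new = true) (hL : Closed chevE6 L)
    {c : ℕ → K} (hc : Supp chevE6 L c) (t : K) :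
    Closed chevE6 (addBits L new) ∧ ∃ c' : ℕ → K, Supp chevE6 (addBits L new) c' ∧
      factsE6.xg p t * el factsE6 c * factsE6.xg p t = el factsE6 c' ∧
      ∀ s, inI T (addBits L new) s = true → c' s = c s + valAt (entries T p L) t c s := by
  simp only [stepOk, Bool.and_eq_true, Bool.not_eq_true', List.all_eq_true] at h
  obtain ⟨⟨⟨hp, hneg⟩, hext⟩, hE⟩ := h
  have hL' := closed_ext factsE6 hT hL hext
  obtain ⟨c', hc', heq, hval⟩ := conj_step factsE6 hT (Nat.le_of_ble_eq_true hp) hneg hL hL'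
    (fun x hx => by rw [has_addBits, hx, Bool.true_or]) hE hc t
  exact ⟨hL', c', hc', heq, fun s hs => hval s (inI_spec hT hL' hs).1 (inI_spec hT hL' hs).2.1⟩

omit hT in
theorem xg_inv (p : ℕ) (t : K) : (factsE6.xg p t)⁻¹ = factsE6.xg p t := by
  rw [← factsE6.xg_neg, CharTwo.neg_eq]

omit hT in
theorem conj_facts {g u v : GL chevE6.Idx K} (hg : g ∈ twistedE6 K q) (hu : u ∈ twistedE6 K q)
    (h2 : u * u = 1) (h1 : u ≠ 1) (he : g * u * g⁻¹ = v) :
    v ∈ twistedE6 K q ∧ v * v = 1 ∧ v ≠ 1 ∧ CT q u v := by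
  subst he
  obtain ⟨a, b⟩ := invol_conj (g := g) h2 h1
  exact ⟨mul_mem (mul_mem hg hu) (inv_mem hg), a, b, ⟨g, hg, rfl⟩⟩

include S

theorem sym_val {L s : ℕ} (hL : Closed chevE6 L) (hsym : symB L = true) (hs : has L s = true)
    (hi : Indec chevE6 L (graphE6.img s)) {c : ℕ → K} (hc : Supp chevE6 L c)
    (hm : el factsE6 c ∈ twistedE6 K q) : c (graphE6.img s) = c s ^ q :=
  coef_sym S hL (symB_spec hsym hL) hs hi hc (S.le_fix hm)

/-- The step by a single fixed root. -/
theorem single_step (P : TTarget K q) {L : ℕ} {nz : List ℕ} {p r : ℕ} {new : List ℕ} {nd' : TNode}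
    (h : singleOk T L nz p r new nd' = true) (ih : Good P nd')
    (hL : Closed chevE6 L) {c : ℕ → K} (hc : Supp chevE6 L c) (hm : el factsE6 c ∈ twistedE6 K q)
    (hsq : el factsE6 c * el factsE6 c = 1) (hne : el factsE6 c ≠ 1) (hnz : ∀ x ∈ nz, c x ≠ 0)
    {t : K} (htq : t ^ q = t) (hkill : c r + valAt (entries T p L) t c r = 0)
    (ht0 : c r ≠ 0 → t ≠ 0) : P.Std (el factsE6 c) := by
  simp only [singleOk, Bool.and_eq_true, Bool.not_eq_true', List.all_eq_true] at h
  obtain ⟨⟨⟨⟨⟨⟨⟨hst, hp⟩, hsym⟩, -⟩, hir⟩, hir'⟩, hLc⟩, hz⟩ := h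
  have hp72 : p < 72 := by
    simp only [stepOk, Bool.and_eq_true] at hst; exact Nat.le_of_ble_eq_true hst.1.1.1
  obtain ⟨hL', c', hc', heq, hval⟩ := conj1 hT hst hL hc t
  obtain ⟨hr, hri, -⟩ := inI_spec hT hL' hir
  obtain ⟨-, hri', -⟩ := inI_spec hT hL' hir'
  have hg := fixRoot_mem S hp72 (Nat.eq_of_beq_eq_true hp) htq
  obtain ⟨m', s', n', hct⟩ := conj_facts hg hm hsq hne (by rw [xg_inv, heq])
  have hr0 : c' r = 0 := by rw [hval r hir, hkill]
  have hr0' : c' (graphE6.img r) = 0 := by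
    rw [sym_val hT S hL' hsym hr hri' hc' m', hr0, qzero S]
  have e' : nd'.L = remOrb (addBits L new) r := Nat.eq_of_beq_eq_true hLc
  refine P.of_ct hct (ih (e' ▸ remOrb_closed hL' hri hri') c' (e' ▸ remOrb_supp hc' hr0 hr0') m' s' n'
    fun s hs => ?_)
  obtain ⟨⟨⟨-, -⟩, a2⟩, a3⟩ := hz s hs
  obtain ⟨hsL, -, hs72⟩ := inI_spec hT hL' a2
  rw [hval s a2]
  simp only [Bool.or_eq_true, Bool.and_eq_true, mem_iff, Bool.not_eq_true'] at a3
  rcases a3 with ⟨a, b⟩ | ⟨⟨a, b⟩, d⟩
  · rw [valAt_none a, add_zero]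
    exact hnz s b
  · obtain ⟨e, hez, he⟩ := oneIn_spec d
    rw [hc s (hL'.pos s hsL).1 hs72 b, zero_add, one1_spec he]
    exact mul_ne_zero (ht0 (hnz r a)) (hnz e hez)

/-- The step by a pair of roots. -/
theorem pair_step (P : TTarget K q) {L : ℕ} {nz : List ℕ} {p r : ℕ} {new1 new2 : List ℕ} {nd' : TNode}
    (h : pairOk T L nz p r new1 new2 nd' = true) (ih : Good P nd')
    (hL : Closed chevE6 L) {c : ℕ → K} (hc : Supp chevE6 L c) (hm : el factsE6 c ∈ twistedE6 K q)
    (hsq : el factsE6 c * el factsE6 c = 1) (hne : el factsE6 c ≠ 1) (hnz : ∀ x ∈ nz, c x ≠ 0)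
    (t : K)
    (hkill : ∀ c1 : ℕ → K, Supp chevE6 (addBits L new1) c1 →
      (∀ s, inI T (addBits L new1) s = true → c1 s = c s + valAt (entries T p L) t c s) →
      c r + valAt (entries T p L) t c r +
        valAt (entries T (graphE6.img p) (addBits L new1)) (t ^ q) c1 r = 0)
    (ht0 : c r ≠ 0 → t ≠ 0) : P.Std (el factsE6 c) := by
  simp only [pairOk, Bool.and_eq_true, Bool.not_eq_true', List.all_eq_true] at h
  obtain ⟨⟨⟨⟨⟨⟨⟨⟨⟨hst1, hst2⟩, hp⟩, hsym⟩, -⟩, hir1⟩, hir⟩, hir'⟩, hLc⟩, hz⟩ := h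
  have hp72 : p < 72 := by
    simp only [stepOk, Bool.and_eq_true] at hst1; exact Nat.le_of_ble_eq_true hst1.1.1.1
  obtain ⟨hL1, c1, hc1, heq1, hval1⟩ := conj1 hT hst1 hL hc t
  obtain ⟨hL2, c2, hc2, heq2, hval2⟩ := conj1 hT hst2 hL1 hc1 (t ^ q)
  obtain ⟨hr, hri, -⟩ := inI_spec hT hL2 hir
  obtain ⟨-, hri', -⟩ := inI_spec hT hL2 hir'
  have hne' : graphE6.img p ≠ p := fun e => by rw [e, beq_nat] at hp; simp at hp
  have hg := inv_mem (pairRoot_mem S hp72 hne' t)
  obtain ⟨m', s', n', hct⟩ := conj_facts (v := el factsE6 c2) hg hm hsq hne (by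
    simp only [_root_.mul_inv_rev, xg_inv]
    rw [← heq2, ← heq1]
    group)
  have hr0 : c2 r = 0 := by rw [hval2 r hir, hval1 r hir1, hkill c1 hc1 hval1]
  have hr0' : c2 (graphE6.img r) = 0 := by
    rw [sym_val hT S hL2 hsym hr hri' hc2 m', hr0, qzero S]
  have e' : nd'.L = remOrb (addBits (addBits L new1) new2) r := Nat.eq_of_beq_eq_true hLc
  refine P.of_ct hct (ih (e' ▸ remOrb_closed hL2 hri hri') c2 (e' ▸ remOrb_supp hc2 hr0 hr0') m' s' n'
    fun s hs => ?_)
  obtain ⟨⟨⟨-, -⟩, a2⟩, a3⟩ := hz s hs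
  obtain ⟨hsL, -, hs72⟩ := inI_spec hT hL2 a2
  rw [hval2 s a2]
  simp only [Bool.or_eq_true, Bool.and_eq_true, mem_iff, Bool.not_eq_true'] at a3
  rcases a3 with (⟨⟨⟨a, b⟩, d⟩, e⟩ | ⟨⟨⟨⟨a, b⟩, d⟩, e⟩, f⟩) | ⟨⟨a, b⟩, d⟩
  · rw [valAt_none e, add_zero, hval1 s b, valAt_none d, add_zero]
    exact hnz s a
  · obtain ⟨g, hgz, hg⟩ := oneIn_spec e
    rw [valAt_none f, add_zero, hval1 s d, hc s (hL2.pos s hsL).1 hs72 b, zero_add, one1_spec hg]
    exact mul_ne_zero (ht0 (hnz r a)) (hnz g hgz)
  · obtain ⟨f, hfz, hf, hfi, hfn⟩ := oneVia_spec d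
    rw [hc1 s (hL2.pos s hsL).1 hs72 b, zero_add, one1_spec hf, hval1 f hfi, valAt_none hfn, add_zero]
    exact mul_ne_zero (pow_ne_zero _ (ht0 (hnz r a))) (hnz f hfz)

theorem good_node (P : TTarget K q) (nodes : Tr TNode) (n i : ℕ) (hok : okNode T nodes n i = true)
    (ih : ∀ k, i < k → k < n → Good P (nodes.get k)) : Good P (nodes.get i) := by
  intro hL c hc hm hsq hne hnz
  unfold okNode at hok
  generalize nodes.get i = nd at *
  obtain ⟨L, nz, step⟩ := nd
  simp only [Bool.and_eq_true] at hL hc hnz hok ⊢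
  obtain ⟨hsym, hok⟩ := hok
  cases step with
  | one =>
    have h0 : L = 0 := Nat.eq_of_beq_eq_true hok
    refine absurd ?_ hne
    rw [← el_zero factsE6]
    exact CommSys.prodOver_congr _ fun r hr => hc r (Facts.mem_posL.1 hr).1 (Facts.mem_posL.1 hr).2 (by
      simp [h0, has_eq])
  | sq a b s kind child =>
    simp only [Bool.and_eq_true] at hok
    obtain ⟨hdec, hkind⟩ := hok
    have hzero := decB_step factsE6 hT hL hdec hc hsq
    have go : ∀ x, (nodes.get child).L = remOrb L x → goodR T L x = true →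
        i < child ∧ child < n → ((nodes.get child).nz.all fun z => mem' z nz) = true → c x = 0 →
          P.Std (el factsE6 c) := by
      intro x hLx hgx hlt h3 h0
      obtain ⟨⟨x1, x2⟩, ⟨-, x4⟩, -⟩ := goodR_spec hT hL hgx
      have h0' : c (graphE6.img x) = 0 := by rw [sym_val hT S hL hsym x1 x4 hc hm, h0, qzero S]
      refine ih child hlt.1 hlt.2 (hLx ▸ remOrb_closed hL x2 x4) c (hLx ▸ remOrb_supp hc h0 h0') hm hsq hne
        fun z hz => hnz z ?_
      rw [List.all_eq_true] at h3
      exact mem_iff.1 (h3 z hz)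
    split at hkind
    · rw [Bool.and_eq_true, mem_iff, mem_iff] at hkind
      rcases hzero with h | h
      exacts [absurd h (hnz a hkind.1), absurd h (hnz b hkind.2)]
    · simp only [Bool.and_eq_true] at hkind
      obtain ⟨⟨⟨⟨k1, k2⟩, k3⟩, k4⟩, k5⟩ := hkind
      exact go b (Nat.eq_of_beq_eq_true k4) k3 (later_spec k2) k5 (hzero.resolve_left (hnz a (mem_iff.1 k1)))
    · simp only [Bool.and_eq_true] at hkind
      obtain ⟨⟨⟨⟨k1, k2⟩, k3⟩, k4⟩, k5⟩ := hkind
      exact go a (Nat.eq_of_beq_eq_true k4) k3 (later_spec k2) k5 (hzero.resolve_right (hnz b (mem_iff.1 k1)))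
  | br a c0 c1 =>
    simp only [Bool.and_eq_true, List.all_eq_true, mem_iff] at hok
    obtain ⟨⟨⟨⟨⟨⟨hi, l0⟩, l1⟩, m0⟩, z0⟩, m1⟩, z1⟩ := hok
    obtain ⟨⟨x1, x2⟩, ⟨-, x4⟩, -⟩ := goodR_spec hT hL hi
    have hsv := sym_val hT S hL hsym x1 x4 hc hm
    by_cases h : c a = 0
    · have e : (nodes.get c0).L = remOrb L a := Nat.eq_of_beq_eq_true m0
      have h' : c (graphE6.img a) = 0 := by rw [hsv, h, qzero S]
      exact ih c0 (later_spec l0).1 (later_spec l0).2 (e ▸ remOrb_closed hL x2 x4) c
        (e ▸ remOrb_supp hc h h') hm hsq hne fun z hz => hnz z (z0 z hz)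
    · have e : (nodes.get c1).L = L := Nat.eq_of_beq_eq_true m1
      refine ih c1 (later_spec l1).1 (later_spec l1).2 (e.symm ▸ hL) c (e.symm ▸ hc) hm hsq hne fun z hz => ?_
      rcases List.mem_cons.1 (z1 z hz) with rfl | hz'
      · exact h
      rcases List.mem_cons.1 hz' with rfl | hz''
      · rw [hsv]; exact pow_ne_zero _ h
      · exact hnz z hz''
  | w1 k child =>
    simp only [Bool.and_eq_true, Bool.not_eq_true', List.all_eq_true, beq_iff_eq, mem_iff] at hok
    obtain ⟨⟨⟨⟨⟨⟨hk, hke⟩, hs⟩, l1⟩, hp⟩, himg⟩, hz⟩ := hok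
    obtain ⟨hcl, c', hc', heq, hval⟩ := refl_step factsE6 hT (Nat.le_of_ble_eq_true hk : k < chevE6.rank) hs hL
      (fun s h1 h2 => himg s (Facts.mem_posL.2 ⟨h1, h2⟩)) (fun s hs' => pos_of_posMask hp hs') hc
    obtain ⟨m', s', n', hct⟩ := conj_facts
      (ng_mem S (Nat.le_of_ble_eq_true hk) (Nat.eq_of_beq_eq_true hke)) hm hsq hne heq
    refine P.of_ct hct (ih child (later_spec l1).1 (later_spec l1).2 hcl c' hc' m' s' n' fun s hs' => ?_)
    obtain ⟨a1, a3⟩ := hz s hs'
    obtain ⟨b1, b2, -⟩ := inI_spec hT hcl a1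
    rw [hval s b1 b2]
    exact hnz _ a3
  | w2 k l mid child =>
    simp only [Bool.and_eq_true, Bool.not_eq_true', List.all_eq_true, beq_iff_eq, mem_iff,
      decide_eq_true_eq] at hok
    obtain ⟨⟨⟨⟨⟨⟨⟨⟨hkl, hs⟩, hs'⟩, l1⟩, hpm⟩, hp⟩, himg1⟩, himg⟩, hz⟩ := hok
    have hk6 : k < chevE6.rank ∧ l < chevE6.rank := by
      simp only [List.mem_cons, List.not_mem_nil, or_false, Prod.mk.injEq] at hkl
      rcases hkl with ⟨rfl, rfl⟩ | ⟨rfl, rfl⟩ <;> decide +kernel
    obtain ⟨hcl1, c1, hc1, heq1, hval1⟩ := refl_step factsE6 hT hk6.1 hs hL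
      (fun s h1 h2 => himg1 s (Facts.mem_posL.2 ⟨h1, h2⟩)) (fun s hs' => pos_of_posMask hpm hs') hc
    obtain ⟨hcl, c2, hc2, heq2, hval2⟩ := refl_step factsE6 hT hk6.2 hs' hcl1
      (fun s h1 h2 => himg s (Facts.mem_posL.2 ⟨h1, h2⟩)) (fun s hs' => pos_of_posMask hp hs') hc1
    have hkl' : (k, l) ∈ [(0, 5), (2, 4)] := hkl
    have hcom : factsE6.ng (chevE6.simple l) (1 : K) * factsE6.ng (chevE6.simple k) (1 : K) ∈
        twistedE6 K q := by
      have h1 := ng_pair_mem S hkl'
      have h2 := inv_mem h1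
      have hinv : ∀ x, x < chevE6.rank → (factsE6.ng (chevE6.simple x) (1 : K))⁻¹ =
          factsE6.ng (chevE6.simple x) (1 : K) := fun x _ => by
        rw [factsE6.ng_eq, inv_one, CharTwo.neg_eq, _root_.mul_inv_rev, _root_.mul_inv_rev, xg_inv, xg_inv,
          mul_assoc]
      rwa [_root_.mul_inv_rev, hinv k hk6.1, hinv l hk6.2] at h2
    obtain ⟨m', s', n', hct⟩ := conj_facts (v := el factsE6 c2) hcom hm hsq hne (by
      rw [← heq2, ← heq1]; group)
    refine P.of_ct hct (ih child (later_spec l1).1 (later_spec l1).2 hcl c2 hc2 m' s' n' fun s hs'' => ?_)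
    obtain ⟨⟨a1, a2⟩, a3⟩ := hz s hs''
    obtain ⟨b1, b2, -⟩ := inI_spec hT hcl a1
    obtain ⟨d1, d2, -⟩ := inI_spec hT hcl1 a2
    rw [hval2 s b1 b2, hval1 _ d1 d2]
    exact hnz _ a3
  | killA p r new child =>
    simp only [Bool.and_eq_true] at hok
    obtain ⟨⟨⟨l1, hsing⟩, hr⟩, hone⟩ := hok
    split at hone
    next e he =>
      simp only [Bool.and_eq_true, mem_iff] at hone
      obtain ⟨⟨hez, hee⟩, hie⟩ := hone
      obtain ⟨e1, e2, e3⟩ := inI_spec hT hL hie
      have hiL : inI T L r = true := by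
        have h := hsing
        simp only [singleOk, Bool.and_eq_true] at h
        exact h.1.1.1.1.2
      obtain ⟨r1, r2, -⟩ := inI_spec hT hL hiL
      have hse := sym_val hT S hL hsym e1 ((Nat.eq_of_beq_eq_true hee).symm ▸ e2) hc hm
      have hsr := sym_val hT S hL hsym r1 ((Nat.eq_of_beq_eq_true hr).symm ▸ r2) hc hm
      rw [Nat.eq_of_beq_eq_true hee] at hse
      rw [Nat.eq_of_beq_eq_true hr] at hsr
      have hce := hnz e hez
      refine single_step hT S P hsing (ih child (later_spec l1).1 (later_spec l1).2) hL hc hm hsq hne hnz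
        (t := c r / c e) (by rw [div_pow, ← hsr, ← hse]) ?_ fun h => div_ne_zero h hce
      rw [one1_spec he, div_mul_cancel₀ _ hce, CharTwo.add_self_eq_zero]
    next => cases hone
  | killE p r s new child =>
    simp only [Bool.and_eq_true] at hok
    obtain ⟨⟨l1, hsing⟩, hone⟩ := hok
    split at hone
    next e he =>
      simp only [Bool.and_eq_true, mem_iff, Bool.not_eq_true'] at hone
      obtain ⟨⟨⟨⟨⟨⟨⟨⟨hez, hge⟩, hir'⟩, hie⟩, hen⟩, hone'⟩, hre⟩, hrr⟩, hdec⟩ := hone
      split at hone'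
      next e' he' =>
        obtain ⟨⟨g1, -⟩, ⟨-, g4⟩, -⟩ := goodR_spec hT hL hge
        have hsing' := hsing
        simp only [singleOk, Bool.and_eq_true] at hsing'
        obtain ⟨⟨⟨⟨⟨⟨⟨hst, -⟩, -⟩, hiL⟩, hir⟩, hirb⟩, -⟩, -⟩ := hsing'
        obtain ⟨r1, -, -⟩ := inI_spec hT hL hiL
        obtain ⟨-, r4, -⟩ := inI_spec hT hL hir'
        have hse := sym_val hT S hL hsym g1 g4 hc hm
        have hsr := sym_val hT S hL hsym r1 r4 hc hm
        have hce := hnz e hez
        have hre' : r ≠ e := fun h => by rw [h, beq_nat] at hre; simp at hre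
        have hrr' : r ≠ graphE6.img r := fun h => by rw [← h, beq_nat] at hrr; simp at hrr
        have htq : (c r / c e) ^ q = c r / c e := by
          -- a further conjugation in the untwisted group forces the parameter into the subfield
          obtain ⟨hL', c', hc', heq, hval⟩ := conj1 hT hst hL hc (c r / c e)
          obtain ⟨-, hri, -⟩ := inI_spec hT hL' hir
          have h0 : c' r = 0 := by
            rw [hval r hir, one1_spec he, div_mul_cancel₀ _ hce, CharTwo.add_self_eq_zero]
          obtain ⟨s1, -⟩ := invol_conj (g := factsE6.xg p (c r / c e)) hsq hne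
          rw [xg_inv, heq] at s1
          have h3 := decB_step factsE6 hT (hL'.remove hri) hdec (rem_supp hc' h0) s1
          have h4 : c' (graphE6.img r) = 0 ∨ c' e = 0 := by
            rcases Nat.le_total (graphE6.img r) e with h | h
            · rwa [Nat.min_eq_left h, Nat.max_eq_right h] at h3
            · rw [Nat.min_eq_right h, Nat.max_eq_left h] at h3; exact h3.symm
          have h5 : c' (graphE6.img r) = 0 := h4.resolve_right (by
            rw [hval e hie, valAt_none hen, add_zero]; exact hce)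
          rw [hval _ hirb, one1_spec he', Nat.eq_of_beq_eq_true hone', hsr, hse, CharTwo.add_eq_zero] at h5
          rw [div_pow, h5, mul_div_assoc, div_self (pow_ne_zero _ hce), mul_one]
        refine single_step hT S P hsing (ih child (later_spec l1).1 (later_spec l1).2) hL hc hm hsq hne hnz
          htq ?_ fun h => div_ne_zero h hce
        rw [one1_spec he, div_mul_cancel₀ _ hce, CharTwo.add_self_eq_zero]
      next => cases hone'
    next => cases hone
  | killB p r new1 new2 child =>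
    simp only [Bool.and_eq_true] at hok
    obtain ⟨⟨⟨l1, hpair⟩, hone⟩, hn2⟩ := hok
    obtain ⟨e, hez, he⟩ := oneIn_spec hone
    have hce := hnz e hez
    refine pair_step hT S P hpair (ih child (later_spec l1).1 (later_spec l1).2) hL hc hm hsq hne hnz
      (c r / c e) (fun c1 _ _ => ?_) fun h => div_ne_zero h hce
    rw [one1_spec he, div_mul_cancel₀ _ hce, CharTwo.add_self_eq_zero, valAt_none hn2, add_zero]
  | killC p r new1 new2 child =>
    simp only [Bool.and_eq_true] at hok
    obtain ⟨⟨⟨l1, hpair⟩, hr⟩, hone⟩ := hok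
    split at hone
    next e f he hf =>
      simp only [Bool.and_eq_true, mem_iff] at hone
      obtain ⟨⟨⟨⟨hez, hge⟩, hfe⟩, hfi⟩, hfn⟩ := hone
      obtain ⟨⟨g1, -⟩, ⟨-, g4⟩, -⟩ := goodR_spec hT hL hge
      have hpair' := hpair
      simp only [pairOk, Bool.and_eq_true] at hpair'
      obtain ⟨⟨⟨⟨⟨⟨-, hiL⟩, -⟩, -⟩, -⟩, -⟩, -⟩ := hpair'
      obtain ⟨r1, r2, -⟩ := inI_spec hT hL hiL
      have hse := sym_val hT S hL hsym g1 g4 hc hm
      have hsr := sym_val hT S hL hsym r1 ((Nat.eq_of_beq_eq_true hr).symm ▸ r2) hc hm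
      rw [Nat.eq_of_beq_eq_true hr] at hsr
      have hce := hnz e hez
      obtain ⟨v, hv⟩ := Cfsg.Agent.Small.TwoGen.E6.exists_trace S (c r) hsr.symm
      refine pair_step hT S P hpair (ih child (later_spec l1).1 (later_spec l1).2) hL hc hm hsq hne hnz
        (v / c e) (fun c1 _ hc1 => ?_) fun h => div_ne_zero (fun h0 => h ?_) hce
      · rw [one1_spec he, one1_spec hf, hc1 f hfi, valAt_none hfn, add_zero, Nat.eq_of_beq_eq_true hfe, hse,
          ← mul_pow, div_mul_cancel₀ _ hce, add_assoc, hv, CharTwo.add_self_eq_zero]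
      · rw [← hv, h0, qzero S, add_zero]
    next => cases hone
  | killD p r new1 new2 child =>
    simp only [Bool.and_eq_true] at hok
    obtain ⟨⟨⟨⟨l1, hpair⟩, hr⟩, hn1⟩, hone⟩ := hok
    split at hone
    next f hf =>
      simp only [Bool.and_eq_true, Bool.not_eq_true'] at hone
      obtain ⟨⟨hfL, hfi⟩, hone⟩ := hone
      split at hone
      next e he =>
        simp only [Bool.and_eq_true, mem_iff] at hone
        obtain ⟨⟨hez, hee⟩, hie⟩ := hone
        obtain ⟨e1, e2, -⟩ := inI_spec hT hL hie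
        have hpair' := hpair
        simp only [pairOk, Bool.and_eq_true] at hpair'
        obtain ⟨⟨⟨⟨⟨⟨⟨⟨⟨hst1, -⟩, -⟩, -⟩, hiL⟩, -⟩, -⟩, -⟩, -⟩, -⟩ := hpair'
        obtain ⟨r1, r2, -⟩ := inI_spec hT hL hiL
        have hse := sym_val hT S hL hsym e1 ((Nat.eq_of_beq_eq_true hee).symm ▸ e2) hc hm
        have hsr := sym_val hT S hL hsym r1 ((Nat.eq_of_beq_eq_true hr).symm ▸ r2) hc hm
        rw [Nat.eq_of_beq_eq_true hee] at hse
        rw [Nat.eq_of_beq_eq_true hr] at hsr
        have hce := hnz e hez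
        obtain ⟨t, htq, ht2⟩ := qsqrt S (a := c r / c e) (by rw [div_pow, ← hsr, ← hse])
        refine pair_step hT S P hpair (ih child (later_spec l1).1 (later_spec l1).2) hL hc hm hsq hne hnz
          t (fun c1 _ hc1 => ?_) fun h h0 => ?_
        · have hL1 := (conj1 hT hst1 hL hc t).1
          obtain ⟨f1, -, f3⟩ := inI_spec hT hL1 hfi
          rw [valAt_none hn1, add_zero, one1_spec hf, hc1 f hfi, hc f (hL1.pos f f1).1 f3 hfL, zero_add,
            one1_spec he, htq, ← mul_assoc, ← pow_two, ht2, div_mul_cancel₀ _ hce, CharTwo.add_self_eq_zero]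
        · rw [h0, zero_pow (by norm_num), eq_comm, div_eq_zero_iff] at ht2
          rcases ht2 with h' | h'
          exacts [h h', hce h']
      next => cases hone
    next => cases hone
  | quad child =>
    simp only [Bool.and_eq_true, List.all_eq_true, mem_iff] at hok
    obtain ⟨⟨⟨⟨l1, hL0⟩, hz0⟩, hLc⟩, hz⟩ := hok
    obtain ⟨c', hcl, hc', hnz', m', hct⟩ := P.of_quad c (Nat.eq_of_beq_eq_true hL0 ▸ hc) hm
      fun x hx => hnz x (hz0 x hx)
    obtain ⟨g, hg, hge⟩ := hct
    obtain ⟨-, s', n', hct'⟩ := conj_facts hg hm hsq hne hge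
    refine P.of_ct hct' (ih child (later_spec l1).1 (later_spec l1).2
      ((Nat.eq_of_beq_eq_true hLc).symm ▸ hcl) c' ((Nat.eq_of_beq_eq_true hLc).symm ▸ hc') m' s' n'
      fun x hx => hnz' x (hz x hx))
  | rep j =>
    simp only [Bool.and_eq_true, List.all_eq_true, mem_iff] at hok
    obtain ⟨⟨hj, hL0⟩, hz⟩ := hok
    exact P.of_rep j (Nat.le_of_ble_eq_true hj) c (Nat.eq_of_beq_eq_true hL0 ▸ hc) hm fun x hx => hnz x (hz x hx)

/-- A checked certificate classifies the involutions of the twisted group. -/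
theorem classify (P : TTarget K q) (nodes : Tr TNode) (n : ℕ) (hn : 0 < n) (hroot : rootOk T nodes = true)
    (hok : ∀ i, i < n → okNode T nodes n i = true)
    {g : GL chevE6.Idx K} (hg : g ∈ twistedE6 K q) (hg2 : g * g = 1) (hg1 : g ≠ 1) : P.Std g := by
  have hall : ∀ m i, n - i = m → i < n → Good P (nodes.get i) := by
    intro m
    induction m using Nat.strong_induction_on with
    | _ m ihm =>
      intro i hm hi
      exact good_node hT S P nodes n i (hok i hi) fun k hk hk' => ihm (n - k) (by omega) k rfl hk'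
  obtain ⟨u, hu, huG, hct⟩ := exists_ct_U S hg hg2
  refine P.of_ct hct ?_
  obtain ⟨x, hxG, hx⟩ := hct
  obtain ⟨-, h2, h1, -⟩ := conj_facts hxG hg hg2 hg1 hx
  simp only [rootOk, Bool.and_eq_true, List.isEmpty_iff] at hroot
  obtain ⟨⟨hL0, hnz0⟩, hext⟩ := hroot
  have hcl : Closed chevE6 (addBits 0 (Facts.posL chevE6)) := closed_ext factsE6 hT
    ⟨fun r hr => by simp [has_eq] at hr, fun r s hr => by simp [has_eq] at hr⟩ hext
  obtain ⟨c, hc⟩ := (factsE6.sys K).exists_prodOver factsE6.closedList_posL (g := u) (by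
    rw [← factsE6.posUnipotent_eq K, ← factsE6.tsys_U]; exact hu)
  rw [show u = el factsE6 c from hc] at huG h1 h2 ⊢
  have e0 : (nodes.get 0).L = addBits 0 (Facts.posL chevE6) := Nat.eq_of_beq_eq_true hL0
  refine hall n 0 (by omega) hn (e0.symm ▸ hcl) c ?_ huG h2 h1 (by simp [hnz0])
  intro r h1' h2' hr
  rw [e0, has_addBits, decide_eq_true (Facts.mem_posL.2 ⟨h1', h2'⟩), Bool.or_true] at hr
  cases hr

end Cfsg.Agent.Small.C2Inv.TwE6
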