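import Cfsg.Agent.Lib.Small.Char2Invol.TwE6.Check

/-!
Four orthogonal roots in ²E₆(q): a product of their root elements is conjugate to a product over
three orbits.
-/

set_option autoImplicit false
set_option maxRecDepth 4000

namespace Cfsg.Agent.Small.C2Inv.TwE6

open Cfsg.Lie Cfsg.Agent.Lie Cfsg.Agent.Small.C2Inv.Cert
open Cfsg.Agent.Lie.E6 (Setup)
open scoped MatrixGroups

/-- The roots in play. -/
def qL1 : List ℕ := [53, 65, 71]

theorem quad_facts :
    extB chevE6 E6.tab 0 quadL = true ∧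
    stepOk E6.tab 39 (addBits 0 quadL) qL1 = true ∧
    stepOk E6.tab 35 (addBits (addBits 0 quadL) qL1) [62] = true ∧
    indecB E6.tab (addBits (addBits (addBits 0 quadL) qL1) [62]) 64 = true ∧
    stepOk E6.tab 15 (rem (addBits (addBits (addBits 0 quadL) qL1) [62]) 64) [52] = true ∧
    extB chevE6 E6.tab 0 quadL' = true ∧
    ([51, 53, 54, 63, 65].all fun s => inI E6.tab (addBits (addBits 0 quadL) qL1) s) = true ∧
    inI E6.tab (addBits (addBits 0 quadL) qL1) 64 = true ∧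
    ([51, 53, 54, 62, 63, 64, 65].all fun s =>
      inI E6.tab (addBits (addBits (addBits 0 quadL) qL1) [62]) s) = true ∧
    ([51, 52, 53, 54, 62, 63, 65].all fun s =>
      inI E6.tab (addBits (rem (addBits (addBits (addBits 0 quadL) qL1) [62]) 64) [52]) s) = true ∧
    inI E6.tab (addBits 0 quadL) 51 = true ∧ inI E6.tab (addBits 0 quadL) 54 = true ∧
    inI E6.tab (addBits 0 quadL) 63 = true ∧ inI E6.tab (addBits 0 quadL) 64 = true ∧
    symB (addBits 0 quadL) = true := by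
  decide +kernel

theorem quad_entries :
    (one1 (entries E6.tab 39 (addBits 0 quadL)) 53 = some 51 ∧
      one1 (entries E6.tab 39 (addBits 0 quadL)) 65 = some 63) ∧
    ([51, 54, 63, 64].all fun s => noneAt (entries E6.tab 39 (addBits 0 quadL)) s) = true ∧
    (one1 (entries E6.tab 35 (addBits (addBits 0 quadL) qL1)) 53 = some 54 ∧
      one1 (entries E6.tab 35 (addBits (addBits 0 quadL) qL1)) 62 = some 63 ∧
      one1 (entries E6.tab 35 (addBits (addBits 0 quadL) qL1)) 64 = some 65) ∧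
    ([51, 54, 63, 65].all fun s => noneAt (entries E6.tab 35 (addBits (addBits 0 quadL) qL1)) s) = true ∧
    (one1 (entries E6.tab 15 (rem (addBits (addBits (addBits 0 quadL) qL1) [62]) 64)) 51 = some 62 ∧
      one1 (entries E6.tab 15 (rem (addBits (addBits (addBits 0 quadL) qL1) [62]) 64)) 52 = some 63 ∧
      one1 (entries E6.tab 15 (rem (addBits (addBits (addBits 0 quadL) qL1) [62]) 64)) 54 = some 65) ∧
    ([53, 62, 63, 65].all fun s =>
      noneAt (entries E6.tab 15 (rem (addBits (addBits (addBits 0 quadL) qL1) [62]) 64)) s) = true ∧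
    ((List.range 72).all fun s => has (addBits 0 quadL') s ==
      (decide (s ∉ [51, 53, 54]) && has (addBits (rem (addBits (addBits (addBits 0 quadL) qL1) [62]) 64) [52]) s)) =
        true ∧
    (graphE6.img 39 = 39 ∧ graphE6.img 35 = 15 ∧ graphE6.img 51 = 51 ∧ graphE6.img 63 = 63 ∧
      graphE6.img 54 = 64) := by
  decide +kernel

variable {K : Type*} [Field K] [Fintype K] [CharP K 2] {q : ℕ} (S : Setup K q)

include S

theorem quad_step {c : ℕ → K} (hc : Supp chevE6 (addBits 0 quadL) c)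
    (hm : el factsE6 c ∈ twistedE6 K q) (hnz : ∀ x ∈ quadL, c x ≠ 0) :
    ∃ c' : ℕ → K, Closed chevE6 (addBits 0 quadL') ∧
      Supp chevE6 (addBits 0 quadL') c' ∧ (∀ x ∈ [52, 62, 63, 65], c' x ≠ 0) ∧
      el factsE6 c' ∈ twistedE6 K q ∧ CT q (el factsE6 c) (el factsE6 c') := by
  have hT := E6.tabOk
  obtain ⟨f0, f1, f2, f3, f4, f5, i1, i164, i2, i3, j51, j54, j63, j64, hsym⟩ := quad_facts
  obtain ⟨⟨a53, a65⟩, na, ⟨b53, b62, b64⟩, nb, ⟨d51, d52, d54⟩, nd, himg, g39, g35, g51, g63, g54⟩ := quad_entries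
  simp only [List.all_eq_true] at i1 i2 i3 na nb nd himg
  have h0 : Closed chevE6 0 :=
    ⟨fun r hr => by simp [has_eq] at hr, fun r s hr => by simp [has_eq] at hr⟩
  have hL0 := closed_ext factsE6 hT h0 f0
  have hL' := closed_ext factsE6 hT h0 f5
  obtain ⟨a1, a2, -⟩ := inI_spec hT hL0 j51
  obtain ⟨b1, b2, -⟩ := inI_spec hT hL0 j63
  obtain ⟨e1, -, -⟩ := inI_spec hT hL0 j54
  obtain ⟨-, e4, -⟩ := inI_spec hT hL0 j64
  have ha := sym_val hT S hL0 hsym a1 (g51.symm ▸ a2) hc hm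
  have hb := sym_val hT S hL0 hsym b1 (g63.symm ▸ b2) hc hm
  have he := sym_val hT S hL0 hsym e1 (g54.symm ▸ e4) hc hm
  rw [g51] at ha
  rw [g63] at hb
  rw [g54] at he
  obtain ⟨ha0, he0, hb0, hf0⟩ : c 51 ≠ 0 ∧ c 54 ≠ 0 ∧ c 63 ≠ 0 ∧ c 64 ≠ 0 :=
    ⟨hnz _ (by simp [quadL]), hnz _ (by simp [quadL]), hnz _ (by simp [quadL]), hnz _ (by simp [quadL])⟩
  have hff : (c 64) ^ q = c 54 := by rw [he, S.pow_sq]
  obtain ⟨t, htq, ht2⟩ := qsqrt S (a := c 54 * c 64 / (c 51 * c 63)) (by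
    rw [div_pow, mul_pow, mul_pow, ← ha, ← hb, ← he, hff, mul_comm])
  have ht2' : t ^ 2 * (c 51 * c 63) = c 54 * c 64 := by rw [ht2, div_mul_cancel₀ _ (mul_ne_zero ha0 hb0)]
  have ht0 : t ≠ 0 := fun h => mul_ne_zero he0 hf0 (by rw [← ht2', h]; ring)
  obtain ⟨τ, hτ⟩ : ∃ τ, τ = c 64 / (t * c 63) := ⟨_, rfl⟩
  have htb : t * c 63 ≠ 0 := mul_ne_zero ht0 hb0
  have hτq : τ ^ q = c 54 / (t * c 63) := by rw [hτ, div_pow, mul_pow, htq, ← hb, hff]
  obtain ⟨hL1, c1, hc1, heq1, hval1⟩ := conj1 hT f1 hL0 hc t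
  obtain ⟨hL2, c2, hc2, heq2, hval2⟩ := conj1 hT f2 hL1 hc1 τ
  have hz : ∀ s, s ∈ [53, 65] → c s = 0 := fun s hs => by
    refine hc s ?_ ?_ ?_ <;>
      (simp only [List.mem_cons, List.not_mem_nil, or_false] at hs; rcases hs with rfl | rfl <;> decide +kernel)
  have v51 : c1 51 = c 51 := by rw [hval1 _ (i1 _ (by simp)), valAt_none (na _ (by simp)), add_zero]
  have v54 : c1 54 = c 54 := by rw [hval1 _ (i1 _ (by simp)), valAt_none (na _ (by simp)), add_zero]
  have v63 : c1 63 = c 63 := by rw [hval1 _ (i1 _ (by simp)), valAt_none (na _ (by simp)), add_zero]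
  have v64 : c1 64 = c 64 := by rw [hval1 _ i164, valAt_none (na _ (by simp)), add_zero]
  have v53 : c1 53 = t * c 51 := by rw [hval1 _ (i1 _ (by simp)), one1_spec a53, hz _ (by simp), zero_add]
  have v65 : c1 65 = t * c 63 := by rw [hval1 _ (i1 _ (by simp)), one1_spec a65, hz _ (by simp), zero_add]
  have w51 : c2 51 = c 51 := by rw [hval2 _ (i2 _ (by simp)), valAt_none (nb _ (by simp)), add_zero, v51]
  have w54 : c2 54 = c 54 := by rw [hval2 _ (i2 _ (by simp)), valAt_none (nb _ (by simp)), add_zero, v54]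
  have w63 : c2 63 = c 63 := by rw [hval2 _ (i2 _ (by simp)), valAt_none (nb _ (by simp)), add_zero, v63]
  have w65 : c2 65 = t * c 63 := by rw [hval2 _ (i2 _ (by simp)), valAt_none (nb _ (by simp)), add_zero, v65]
  have w53 : c2 53 = 0 := by
    rw [hval2 _ (i2 _ (by simp)), one1_spec b53, v53, v54, hτ]
    field_simp
    linear_combination ht2' + c 54 * c 64 * (CharTwo.two_eq_zero : (2 : K) = 0)
  have w62 : c2 62 = τ * c 63 := by
    rw [hval2 _ (i2 _ (by simp)), one1_spec b62, v63, hc1 62 (by decide +kernel) (by decide +kernel) (by decide +kernel),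
      zero_add]
  have w64 : c2 64 = 0 := by
    rw [hval2 _ (i2 _ (by simp)), one1_spec b64, v64, v65, hτ, div_mul_cancel₀ _ htb, CharTwo.add_self_eq_zero]
  have hi64 := indec_of_indecB factsE6 hT hL2 f3
  obtain ⟨hL3, c3, hc3, heq3, hval3⟩ := conj1 hT f4 (hL2.remove hi64) (rem_supp hc2 w64) (τ ^ q)
  have x51 : c3 51 = 0 := by
    rw [hval3 _ (i3 _ (by simp)), one1_spec d51, w51, w62, hτq, hτ]
    field_simp
    linear_combination ht2' + c 54 * c 64 * (CharTwo.two_eq_zero : (2 : K) = 0)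
  have x52 : c3 52 = τ ^ q * c 63 := by
    rw [hval3 _ (i3 _ (by simp)), one1_spec d52, w63,
      hc2 52 (by decide +kernel) (by decide +kernel) (by decide +kernel), zero_add]
  have x53 : c3 53 = 0 := by rw [hval3 _ (i3 _ (by simp)), valAt_none (nd _ (by simp)), add_zero, w53]
  have x54 : c3 54 = 0 := by
    rw [hval3 _ (i3 _ (by simp)), one1_spec d54, w54, w65, hτq, div_mul_cancel₀ _ htb, CharTwo.add_self_eq_zero]
  have x62 : c3 62 = τ * c 63 := by rw [hval3 _ (i3 _ (by simp)), valAt_none (nd _ (by simp)), add_zero, w62]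
  have x63 : c3 63 = c 63 := by rw [hval3 _ (i3 _ (by simp)), valAt_none (nd _ (by simp)), add_zero, w63]
  have x65 : c3 65 = t * c 63 := by rw [hval3 _ (i3 _ (by simp)), valAt_none (nd _ (by simp)), add_zero, w65]
  have hsupp : Supp chevE6 (addBits 0 quadL') c3 := by
    intro r h1 h2 hr
    have h := himg r (List.mem_range.2 h2)
    rw [hr, beq_iff_eq, eq_comm, Bool.and_eq_false_iff] at h
    rcases h with h | h
    · simp only [decide_eq_false_iff_not, not_not, List.mem_cons, List.not_mem_nil, or_false] at h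
      rcases h with rfl | rfl | rfl
      exacts [x51, x53, x54]
    · exact hc3 r h1 h2 h
  have hτ0 : τ ≠ 0 := hτ ▸ div_ne_zero hf0 htb
  have hP := pairRoot_mem S (show (35 : ℕ) < 72 by norm_num) (by rw [g35]; norm_num) τ
  rw [g35] at hP
  have hx := fixRoot_mem S (show (39 : ℕ) < 72 by norm_num) g39 htq
  have hg := mul_mem (inv_mem hP) (inv_mem hx)
  have hconj : (factsE6.xg 35 τ * factsE6.xg 15 (τ ^ q))⁻¹ * (factsE6.xg 39 t)⁻¹ * el factsE6 c *
      ((factsE6.xg 35 τ * factsE6.xg 15 (τ ^ q))⁻¹ * (factsE6.xg 39 t)⁻¹)⁻¹ = el factsE6 c3 := by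
    simp only [_root_.mul_inv_rev, xg_inv]
    rw [← heq3, ← heq2, ← heq1]
    group
  refine ⟨c3, hL', hsupp, fun x hx' => ?_, hconj ▸ mul_mem (mul_mem hg hm) (inv_mem hg), ⟨_, hg, hconj⟩⟩
  simp only [List.mem_cons, List.not_mem_nil, or_false] at hx'
  rcases hx' with rfl | rfl | rfl | rfl
  · rw [x52]; exact mul_ne_zero (pow_ne_zero _ hτ0) hb0
  · rw [x62]; exact mul_ne_zero hτ0 hb0
  · rw [x63]; exact hb0
  · rw [x65]; exact mul_ne_zero ht0 hb0

end Cfsg.Agent.Small.C2Inv.TwE6
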