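import Cfsg.Agent.Lib.Small.Char2Invol.TwE6.Cert
import Cfsg.Agent.Lib.Small.Char2Invol.TwE6.Quad
import Cfsg.Agent.Lib.Small.Char2Invol.ClassE6

/-!
The three classes of involutions of ²E₆(q), q even.
-/

set_option autoImplicit false
set_option maxRecDepth 4000

set_option linter.unusedSectionVars false

namespace Cfsg.Agent.Small.C2Inv.TwE6

open Cfsg.Lie Cfsg.Agent.Lie Cfsg.Agent.Small.C2Inv.Cert
open Cfsg.Agent.Lie.E6 (Setup)
open scoped MatrixGroups

theorem lam_ok : (∀ j, j < 3 → repOk chevE6 (repsL.getD j []) (coLam chevE6) 1 = true) := by decide +kernel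

theorem rep_rows :
    (List.range 6).map (fun i => chevE6.cartan i 71) = [0, 1, 0, 0, 0, 0] ∧
    (List.range 6).map (fun i => chevE6.cartan i 66) = [1, 0, -1, 0, 1, 0] ∧
    (List.range 6).map (fun i => chevE6.cartan i 68) = [0, 0, 1, 0, -1, 1] ∧
    (List.range 6).map (fun i => chevE6.cartan i 55) = [-1, 0, 0, 0, 1, 0] ∧
    (List.range 6).map (fun i => chevE6.cartan i 65) = [1, 0, -1, 1, -1, 1] ∧
    (List.range 6).map (fun i => chevE6.cartan i 67) = [0, 0, 1, 0, 0, -1] := by decide +kernel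

theorem rep_sym : ∀ j, j < 3 →
    symB (addBits 0 (repsL.getD j [])) = true ∧ extB chevE6 E6.tab 0 (repsL.getD j []) = true ∧
    ((repsL.getD j []).all fun r => inI E6.tab (addBits 0 (repsL.getD j [])) r) = true := by decide +kernel

theorem img_reps : graphE6.img 71 = 71 ∧ graphE6.img 66 = 68 ∧ graphE6.img 55 = 67 ∧ graphE6.img 65 = 65 := by
  decide +kernel

variable {K : Type*} [Field K] [CharP K 2] {q : ℕ}

theorem el_rep {j : ℕ} (hj : j < 3) {c : ℕ → K} (hc : Supp chevE6 (addBits 0 (repsL.getD j [])) c) :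
    el factsE6 c = ((repsL.getD j []).map fun r => factsE6.xg r (c r)).prod := by
  classical
  set R := repsL.getD j [] with hR'
  have h := lam_ok j hj
  rw [← hR'] at h
  have h' := h
  simp only [repOk, Bool.and_eq_true, List.all_eq_true, decide_eq_true_eq, Bool.or_eq_true, beq_iff_eq] at h'
  obtain ⟨hnd, hR⟩ := h'
  have h1 := prod_eq_prodOver factsE6 factsE6.closedList_posL.sorted.nodup (ps := R.map fun r => (r, c r))
    (fun p hp => by
      obtain ⟨r, hr, rfl⟩ := List.mem_map.1 hp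
      exact Facts.mem_posL.2 (hR r hr).1) fun p hp r t hr => by
    obtain ⟨a, ha, rfl⟩ := List.mem_map.1 hp
    obtain ⟨s, hs, rfl⟩ := List.mem_map.1 hr
    obtain ⟨b, hb, rfl⟩ := List.mem_map.1 hs
    exact rep_comm factsE6 h ha hb _ _
  rw [List.map_map] at h1
  refine Eq.trans ?_ h1.symm
  refine CommSys.prodOver_congr _ fun r hr => ?_
  by_cases hrR : r ∈ R
  · exact (coef_of_nodup (p := (r, c r)) (by rw [List.map_map]; simpa [Function.comp_def] using hnd)
      (List.mem_map.2 ⟨r, hrR, rfl⟩)).symm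
  · rw [hc r (Facts.mem_posL.1 hr).1 (Facts.mem_posL.1 hr).2 (by rw [has_addBits]; simp [has_eq, hrR])]
    rw [coef, List.filter_eq_nil_iff.2 fun q hq => ?_]
    · simp
    · obtain ⟨b, hb, rfl⟩ := List.mem_map.1 hq
      simp only [beq_iff_eq]
      exact fun e' => hrR (e' ▸ hb)

theorem comm_prod {j : ℕ} (hj : j < 3) {x y : ℕ} (hx : x ∈ repsL.getD j []) (hy : y ∈ repsL.getD j [])
    (t u : K) : factsE6.xg x t * factsE6.xg y u = factsE6.xg y u * factsE6.xg x t :=
  (rep_comm factsE6 (lam_ok j hj) hx hy t u).eq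

variable [Fintype K] (S : Setup K q)

include S

theorem rep_mem {j : ℕ} (hj : j < 3) : repEl (F := K) factsE6 (repsL.getD j []) ∈ twistedE6 K q := by
  obtain ⟨g71, g66, g55, g65⟩ := img_reps
  interval_cases j
  · simpa [repEl, repsL] using fixRoot_mem S (show (71 : ℕ) < 72 by norm_num) g71 (one_pow q)
  · have := pairRoot_mem S (show (66 : ℕ) < 72 by norm_num) (by rw [g66]; norm_num) (1 : K)
    rw [g66, one_pow] at this
    simpa [repEl, repsL] using this
  · have h1 := pairRoot_mem S (show (55 : ℕ) < 72 by norm_num) (by rw [g55]; norm_num) (1 : K)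
    rw [g55, one_pow] at h1
    have := mul_mem h1 (fixRoot_mem S (show (65 : ℕ) < 72 by norm_num) g65 (one_pow q))
    rw [mul_assoc, comm_prod (K := K) (j := 2) (x := 67) (y := 65) (by norm_num) (by simp [repsL]) (by simp [repsL])] at this
    simpa [repEl, repsL] using this

theorem ct_torus {t u m n : Kˣ} (hm : m ^ q = m) (hn : n ^ q = n) {j : ℕ} (hj : j < 3) {c : ℕ → K}
    (hc : Supp chevE6 (addBits 0 (repsL.getD j [])) c)
    (h : ∀ r ∈ repsL.getD j [], (torChar chevE6 (S.crd t u m n) r : K) * c r = 1) :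
    CT q (el factsE6 c) (repEl factsE6 (repsL.getD j [])) := by
  refine ⟨torus chevE6 K (S.crd t u m n), S.torus_mem hm hn, ?_⟩
  rw [el_rep hj hc, repEl, ← MulAut.conj_apply, map_list_prod, List.map_map]
  congr 1
  refine List.map_congr_left fun r hr => ?_
  show torus chevE6 K _ * factsE6.xg r (c r) * (torus chevE6 K _)⁻¹ = factsE6.xg r 1
  have hr72 : r < chevE6.nroots := by
    revert r
    interval_cases j <;> simp [repsL] <;> decide
  rw [factsE6.torus_conj _ hr72, h r hr]

theorem tor_val (t u m n : Kˣ) (r : ℕ) (l : List ℤ)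
    (h : (List.range 6).map (fun i => chevE6.cartan i r) = l) :
    torChar chevE6 (S.crd t u m n) r = t ^ l.getD 0 0 * m ^ l.getD 1 0 * u ^ l.getD 2 0 * n ^ l.getD 3 0 *
      (u ^ q) ^ l.getD 4 0 * (t ^ q) ^ l.getD 5 0 := by
  subst h
  refine (Fin.prod_univ_six fun i : Fin 6 => S.crd t u m n i ^ chevE6.cartan i.val r).trans ?_
  simp [Setup.crd, List.range_succ, List.getD]

theorem of_rep {j : ℕ} (hj : j < 3) {c : ℕ → K} (hc : Supp chevE6 (addBits 0 (repsL.getD j [])) c)
    (hm : el factsE6 c ∈ twistedE6 K q) (hnz : ∀ x ∈ repsL.getD j [], c x ≠ 0) :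
    CT q (el factsE6 c) (repEl factsE6 (repsL.getD j [])) := by
  obtain ⟨hsym, hext, hind⟩ := rep_sym j hj
  have hT := E6.tabOk
  have hL := closed_ext factsE6 hT
    (show Closed chevE6 0 from ⟨fun r hr => by simp [has_eq] at hr, fun r s hr => by simp [has_eq] at hr⟩) hext
  rw [List.all_eq_true] at hind
  have hs : ∀ r, r ∈ repsL.getD j [] → graphE6.img r ∈ repsL.getD j [] →
      c (graphE6.img r) = c r ^ q := fun r h1 h2 =>
    sym_val hT S hL hsym (inI_spec hT hL (hind r h1)).1 (inI_spec hT hL (hind _ h2)).2.1 hc hm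
  obtain ⟨g71, g66, g55, g65⟩ := img_reps
  obtain ⟨r71, r66, r68, r55, r65, r67⟩ := rep_rows
  interval_cases j
  · obtain ⟨m, hm1⟩ : ∃ m : Kˣ, (m : K) = (c 71)⁻¹ :=
      ⟨Units.mk0 _ (inv_ne_zero (hnz 71 (by simp [repsL]))), rfl⟩
    have h71 := hs 71 (by simp [repsL]) (by rw [g71]; simp [repsL])
    rw [g71] at h71
    refine ct_torus S (t := 1) (u := 1) (m := m) (n := 1) (Units.ext (by push_cast; rw [hm1, inv_pow, ← h71]))
      (one_pow q) (by norm_num) hc fun r hr => ?_
    obtain rfl : r = 71 := by simpa [repsL] using hr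
    rw [tor_val S _ _ _ _ _ _ r71]
    simp [hm1, hnz 71 (by simp [repsL])]
  · obtain ⟨t, ht⟩ : ∃ t : Kˣ, (t : K) = (c 66)⁻¹ :=
      ⟨Units.mk0 _ (inv_ne_zero (hnz 66 (by simp [repsL]))), rfl⟩
    have h68 := hs 66 (by simp [repsL]) (by rw [g66]; simp [repsL])
    rw [g66] at h68
    refine ct_torus S (t := t) (u := 1) (m := 1) (n := 1) (one_pow q) (one_pow q) (by norm_num) hc fun r hr => ?_
    rcases (show r = 66 ∨ r = 68 by simpa [repsL] using hr) with rfl | rfl
    · rw [tor_val S _ _ _ _ _ _ r66]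
      simp [ht, hnz 66 (by simp [repsL])]
    · rw [tor_val S _ _ _ _ _ _ r68]
      simp [ht, h68, hnz 66 (by simp [repsL])]
  · obtain ⟨u, hu⟩ : ∃ u : Kˣ, (u : K) = (c 55)⁻¹ ^ q :=
      ⟨Units.mk0 _ (pow_ne_zero _ (inv_ne_zero (hnz 55 (by simp [repsL])))), rfl⟩
    have h67 := hs 55 (by simp [repsL]) (by rw [g55]; simp [repsL])
    rw [g55] at h67
    have h65 := hs 65 (by simp [repsL]) (by rw [g65]; simp [repsL])
    rw [g65] at h65
    obtain ⟨w, hw⟩ : ∃ w : Kˣ, (w : K) = (c 65)⁻¹ :=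
      ⟨Units.mk0 _ (inv_ne_zero (hnz 65 (by simp [repsL]))), rfl⟩
    have huu : (u ^ q) ^ q = u := Units.ext (by push_cast; exact S.pow_sq _)
    refine ct_torus S (t := 1) (u := u) (m := 1) (n := w * u * u ^ q) (one_pow q) ?_ (by norm_num) hc fun r hr => ?_
    · rw [mul_pow, mul_pow, huu, show w ^ q = w from Units.ext (by push_cast; rw [hw, inv_pow, ← h65])]
      exact mul_right_comm _ _ _
    · rcases (show r = 55 ∨ r = 65 ∨ r = 67 by simpa [repsL] using hr) with rfl | rfl | rfl
      · rw [tor_val S _ _ _ _ _ _ r55]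
        simp [hu, S.pow_sq, hnz 55 (by simp [repsL])]
      · rw [tor_val S _ _ _ _ _ _ r65]
        simp [hw]
        field_simp [hnz 65 (show 65 ∈ repsL.getD 2 [] by simp [repsL]), u.ne_zero]
      · rw [tor_val S _ _ _ _ _ _ r67]
        simp [hu, h67, hnz 55 (by simp [repsL])]

/-- The target of the checker. -/
def target : TTarget K q where
  Std u := ∃ j, j < 3 ∧ CT q u (repEl factsE6 (repsL.getD j []))
  of_ct := fun h ⟨j, hj, h'⟩ => ⟨j, hj, ct_trans S h h'⟩
  of_rep := fun j hj _ hc hm hnz => ⟨j, hj, of_rep S hj hc hm hnz⟩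
  of_quad := fun _ hc hm hnz => quad_step S hc hm hnz

omit S in
theorem rank_rep {j : ℕ} (hj : j < 3) :
    (((repEl factsE6 (repsL.getD j []) : GL chevE6.Idx K) : Matrix chevE6.Idx chevE6.Idx K) - 1).rank =
      E6.ranks.getD j 0 := by
  have e : repEl (F := K) factsE6 (repsL.getD j []) = repEl factsE6 (E6.data.reps.getD j []) := by
    interval_cases j
    · rfl
    · simpa [repEl, repsL, E6.data, E6.reps] using
        comm_prod (K := K) (j := 1) (x := 66) (y := 68) (by norm_num) (by simp [repsL]) (by simp [repsL]) 1 1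
    · rfl
  rw [e]
  exact E6.rank_eq factsE6 (show j < E6.data.reps.length from hj)

omit S in
theorem rep_order {j : ℕ} (hj : j < 3) : orderOf (repEl (F := K) factsE6 (repsL.getD j [])) = 2 := by
  refine orderOf_eq_prime ?_ fun e => ?_
  · rw [sq]; exact repEl_sq factsE6 (lam_ok j hj)
  · have h := rank_rep (K := K) hj
    rw [e, Units.val_one, sub_self, Matrix.rank_zero] at h
    interval_cases j <;> simp [E6.ranks] at h

theorem count : (ConjClasses.mk '' {g : ↥(twistedE6 K q) | orderOf g = 2}).ncard = 3 := by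
  classical
  let f : Fin 3 → ConjClasses ↥(twistedE6 K q) := fun j =>
    ConjClasses.mk ⟨repEl factsE6 (repsL.getD j.val []), rep_mem S j.isLt⟩
  have himg : ConjClasses.mk '' {g : ↥(twistedE6 K q) | orderOf g = 2} = Set.range f := by
    ext z
    constructor
    · rintro ⟨g, hg, rfl⟩
      have hg' : orderOf (g : GL chevE6.Idx K) = 2 := by rw [Subgroup.orderOf_coe]; exact hg
      have h2 : (g : GL chevE6.Idx K) * g = 1 := by rw [← sq, ← hg', pow_orderOf_eq_one]
      have h1 : (g : GL chevE6.Idx K) ≠ 1 := fun e => by rw [e, orderOf_one] at hg'; norm_num at hg'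
      obtain ⟨j, hj, x, hx, hxe⟩ := classify E6.tabOk S (target S) nodes 316 (by norm_num) root_ok node_ok g.2 h2 h1
      exact ⟨⟨j, hj⟩, (ConjClasses.mk_eq_mk_iff_isConj.2 (isConj_iff.2 ⟨⟨x, hx⟩, Subtype.ext hxe⟩)).symm⟩
    · rintro ⟨j, rfl⟩
      refine ⟨_, ?_, rfl⟩
      show orderOf _ = 2
      rw [← Subgroup.orderOf_coe]
      exact rep_order j.isLt
  have hinj : Function.Injective f := by
    intro j k he
    obtain ⟨x, hx⟩ := isConj_iff.1 (ConjClasses.mk_eq_mk_iff_isConj.1 he)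
    have hcj : CJ chevE6 K (repEl factsE6 (repsL.getD j.val [])) (repEl factsE6 (repsL.getD k.val [])) :=
      ⟨x, (S.le_fix x.2).1, congrArg Subtype.val hx⟩
    have e := rank_of_cj hcj
    rw [rank_rep j.isLt, rank_rep k.isLt] at e
    revert e
    fin_cases j <;> fin_cases k <;> simp [E6.ranks]
  rw [himg, Set.ncard_range_of_injective hinj, Nat.card_eq_fintype_card, Fintype.card_fin]

end Cfsg.Agent.Small.C2Inv.TwE6
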