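import Cfsg.Agent.Lib.Small.Char2Invol.TwE6.Base
import Cfsg.Agent.Lib.Small.Char2Invol.Check

/-!
Boolean tools for the certificate checker of ²E₆(q), q even.
-/

set_option autoImplicit false

namespace Cfsg.Agent.Small.C2Inv.TwE6

open Cfsg.Lie Cfsg.Agent.Lie Cfsg.Agent.Small.C2Inv.Cert

/-- The mask is stable under the symmetry. -/
def symB (L : ℕ) : Bool :=
  (Facts.posL chevE6).all fun r => !(has L r) || has L (graphE6.img r)

/-- Indecomposable and in the mask, both for a root and its image. -/
def goodR (T : Tab) (L r : ℕ) : Bool :=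
  has L r && indecB T L r && has L (graphE6.img r) && indecB T L (graphE6.img r)

/-- In the mask and indecomposable. -/
def inI (T : Tab) (L r : ℕ) : Bool := has L r && indecB T L r

/-- The only entry at a root, with exponents one: its partner. -/
def one1 (E : List Entry) (s : ℕ) : Option ℕ :=
  match oneAt E s with
  | some e => if Nat.beq e.2.2.1 1 && Nat.beq e.2.2.2 1 then some e.1 else none
  | none => none

/-- The partner is in a list. -/
def oneIn (E : List Entry) (s : ℕ) (l : List ℕ) : Bool :=
  match one1 E s with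
  | some e => mem' e l
  | none => false

/-- A new coefficient after the second step. -/
def oneVia (T : Tab) (L1 : ℕ) (E1 E2 : List Entry) (s : ℕ) (l : List ℕ) : Bool :=
  match one1 E2 s with
  | some f => inI T L1 f && noneAt E1 f && mem' f l
  | none => false

/-- The sum at s has the decomposition {a, b} only. -/
def decB (T : Tab) (L a b s : ℕ) : Bool :=
  has L a && has L b && has L s && Nat.ble (a + 1) b && indecB T L a && indecB T L b &&
    ((T.dec.get s).all fun m => !(sub m L) || Nat.beq m (Nat.lor (2 ^ a) (2 ^ b))) &&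
    (match (at' (T.row.get a) s).filter (fun e => Nat.beq e.1 b) with | [_] => true | _ => false)

theorem one1_spec {E : List Entry} {s e : ℕ} (h : one1 E s = some e) {F : Type*} [Field F] (t : F)
    (c : ℕ → F) : valAt E t c s = t * c e := by
  unfold one1 at h
  split at h
  next e' he' =>
    split at h
    next hb =>
      rw [Bool.and_eq_true] at hb
      obtain rfl := Option.some.inj h
      rw [valAt_one he', Nat.eq_of_beq_eq_true hb.1, Nat.eq_of_beq_eq_true hb.2, pow_one, pow_one]
    next => cases h
  next => cases h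

theorem oneIn_spec {E : List Entry} {s : ℕ} {l : List ℕ} (h : oneIn E s l = true) :
    ∃ e ∈ l, one1 E s = some e := by
  unfold oneIn at h
  split at h
  next e he => exact ⟨e, mem_iff.1 h, he⟩
  next => cases h

theorem oneVia_spec {T : Tab} {L1 : ℕ} {E1 E2 : List Entry} {s : ℕ} {l : List ℕ}
    (h : oneVia T L1 E1 E2 s l = true) :
    ∃ f ∈ l, one1 E2 s = some f ∧ inI T L1 f = true ∧ noneAt E1 f = true := by
  unfold oneVia at h
  split at h
  next f hf =>
    simp only [Bool.and_eq_true, mem_iff] at h
    exact ⟨f, h.2, hf, h.1.1, h.1.2⟩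
  next => cases h

variable {D : ChevalleyDatum} {F : Type*} [Field F] [CharP F 2] (hF : Facts D)

include hF in
theorem decB_step {T : Tab} (hT : TabOk D T) {L a b s : ℕ} (hL : Closed D L)
    (h : decB T L a b s = true) {c : ℕ → F} (hc : Supp D L c) (hsq : el hF c * el hF c = 1) :
    c a = 0 ∨ c b = 0 := by
  simp only [decB, Bool.and_eq_true] at h
  obtain ⟨⟨⟨⟨⟨⟨⟨ha, hb⟩, hs⟩, hab⟩, hia⟩, hib⟩, hdec⟩, hone⟩ := h
  split at hone
  next e he =>
    refine square_step hF hT hL ha hb hs (Nat.le_of_ble_eq_true hab) (indec_of_indecB hF hT hL hia)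
      (indec_of_indecB hF hT hL hib) ?_ he hc hsq
    intro r r' hr hr' hne' k hk hks
    have hpr := hL.pos r hr
    have hpr' := hL.pos r' hr'
    have he' := entry_of_term hF hT hpr.1 hpr.2 hpr'.1 hpr'.2 hne' hk
    have h1 := hT.pos_ok r hpr.1 hpr.2
    simp only [posOk, hasPair_eq, force_eq, Bool.and_eq_true, List.all_eq_true] at h1
    have h2 := h1.1 _ he'
    rw [Bool.or_eq_true, decide_eq_true_eq] at h2
    rcases h2 with h2 | h2
    · exact absurd h2 (not_lt.2 hpr'.1)
    rw [Bool.and_eq_true, List.contains_iff_mem] at h2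
    rw [List.all_eq_true] at hdec
    have h3 := hdec _ (hks ▸ h2.1)
    rw [Bool.or_eq_true, Bool.not_eq_true'] at h3
    have h4 : sub (Nat.lor (2 ^ r) (2 ^ r')) L = true := by
      have : (2 ^ r ||| 2 ^ r') &&& L = 2 ^ r ||| 2 ^ r' := by
        refine Nat.eq_of_testBit_eq fun x => ?_
        rw [Nat.testBit_and, Nat.testBit_or, Nat.testBit_two_pow, Nat.testBit_two_pow]
        by_cases e1 : r = x
        · subst e1; rw [← has_eq, hr]; simp
        · by_cases e2 : r' = x
          · subst e2; rw [← has_eq, hr']; simp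
          · simp [e1, e2]
      show Nat.beq ((2 ^ r ||| 2 ^ r') &&& L) (2 ^ r ||| 2 ^ r') = true
      rw [this]
      exact Nat.beq_refl _
    rcases h3 with h3 | h3
    · rw [h4] at h3; cases h3
    have h5 : 2 ^ r ||| 2 ^ r' = 2 ^ a ||| 2 ^ b := Nat.eq_of_beq_eq_true h3
    have key : ∀ x, (r = x ∨ r' = x) ↔ (a = x ∨ b = x) := fun x => by
      have := congrArg (fun m => Nat.testBit m x) h5
      simp only [Nat.testBit_or, Nat.testBit_two_pow] at this
      simpa using congrArg (· = true) this
    rcases (key r).1 (Or.inl rfl) with e1 | e1 <;> rcases (key r').1 (Or.inr rfl) with e2 | e2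
    · exact absurd (e1.symm.trans e2) hne'
    · exact Or.inl ⟨e1.symm, e2.symm⟩
    · exact Or.inr ⟨e1.symm, e2.symm⟩
    · exact absurd (e1.symm.trans e2) hne'
  next => cases hone

end Cfsg.Agent.Small.C2Inv.TwE6
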